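import Groth.Agent.H15.HilbTgt.Basic
import Mathlib.RingTheory.MvPolynomial.Ideal
import Mathlib.Data.Finsupp.Weight
import Mathlib.Algebra.Order.Antidiag.Finsupp

/-!
# Degree zero homomorphisms `I → S/I` of a monomial ideal from its generators
-/

set_option autoImplicit false
set_option linter.unusedSectionVars false

noncomputable section

open MvPolynomial W4c1hilbpn
open Groth.Agent.H15.HilbTgt.Basic

namespace Groth.Agent.Lib.HilbHom62

universe u

variable {σ : Type} [Fintype σ] [DecidableEq σ] (k : Type u) [Field k]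
variable {ι : Type} [Fintype ι] (g : ι → σ →₀ ℕ)

/-- The monomial ideal generated by `x^(g i)`. -/
def idl : Ideal (MvPolynomial σ k) := Ideal.span ((fun s => monomial s (1 : k)) '' Set.range g)

/-- The exponent is divisible by one of the generators. -/
def InI (γ : σ →₀ ℕ) : Prop := ∃ i, g i ≤ γ

theorem inI_gen (i : ι) : InI g (g i) := ⟨i, le_rfl⟩

theorem mem_exps (γ : σ →₀ ℕ) : γ ∈ exps (idl k g) ↔ InI g γ := by
  classical
  show monomial γ (1 : k) ∈ idl k g ↔ _
  rw [idl, mem_ideal_span_monomial_image, support_monomial, if_neg one_ne_zero]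
  simp [InI]

theorem isMonomial : IsMonomial (idl k g) := by
  intro p hp β hβ
  show β ∈ exps (idl k g)
  rw [mem_exps]
  rw [idl, mem_ideal_span_monomial_image] at hp
  obtain ⟨s, ⟨i, rfl⟩, hs⟩ := hp β hβ
  exact ⟨i, hs⟩

open Classical in
/-- The value at `δ` of `x^(g j - g i) · (image of the generator i)`. -/
def ev {M : Type*} [Zero M] (v : ι → (σ →₀ ℕ) → M) (i j : ι) (δ : σ →₀ ℕ) : M :=
  if g j - g i ≤ δ then v i (δ - (g j - g i)) else 0

theorem ev_add (v w : ι → (σ →₀ ℕ) → k) (i j : ι) (δ : σ →₀ ℕ) :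
    ev g (v + w) i j δ = ev g v i j δ + ev g w i j δ := by
  unfold ev; split_ifs <;> simp

theorem ev_smul (r : k) (v : ι → (σ →₀ ℕ) → k) (i j : ι) (δ : σ →₀ ℕ) :
    ev g (r • v) i j δ = r * ev g v i j δ := by
  unfold ev; split_ifs <;> simp

/-- The coefficient systems of degree zero homomorphisms. -/
def V : Submodule k (ι → (σ →₀ ℕ) → k) where
  carrier := {v | (∀ i γ, InI g γ ∨ γ.degree ≠ (g i).degree → v i γ = 0) ∧
    ∀ i j δ, ¬ InI g δ → ev g v i j δ = ev g v j i δ}
  zero_mem' := ⟨fun _ _ _ => rfl, fun i j δ _ => by simp [ev]⟩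
  add_mem' := by
    rintro v w ⟨hv, hv'⟩ ⟨hw, hw'⟩
    exact ⟨fun i γ h => by simp [hv i γ h, hw i γ h],
      fun i j δ h => by rw [ev_add, ev_add, hv' i j δ h, hw' i j δ h]⟩
  smul_mem' := by
    rintro r v ⟨hv, hv'⟩
    exact ⟨fun i γ h => by simp [hv i γ h],
      fun i j δ h => by rw [ev_smul, ev_smul, hv' i j δ h]⟩

/-- The exponents of degree `d`. -/
def deg (d : ℕ) : Finset (σ →₀ ℕ) := (Finset.univ : Finset σ).finsuppAntidiag d

theorem mem_deg {d : ℕ} {γ : σ →₀ ℕ} : γ ∈ deg d ↔ γ.degree = d := by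
  simp [deg, Finset.mem_finsuppAntidiag, Finsupp.degree_eq_sum]

/-- The polynomial with coefficients `v i`. -/
def poly (v : ι → (σ →₀ ℕ) → k) (i : ι) : MvPolynomial σ k :=
  ∑ γ ∈ deg (g i).degree, monomial γ (v i γ)

variable {k g}

theorem coeff_poly {v : ι → (σ →₀ ℕ) → k} (hv : v ∈ V k g) (i : ι) (γ : σ →₀ ℕ) :
    coeff γ (poly k g v i) = v i γ := by
  classical
  rw [poly, coeff_sum]
  simp only [coeff_monomial]
  rw [Finset.sum_ite_eq']
  split_ifs with h
  · rfl
  · exact (hv.1 i γ (Or.inr fun e => h (mem_deg.mpr e))).symm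

theorem mk_eq {v : ι → (σ →₀ ℕ) → k} (hv : v ∈ V k g) (i j : ι) :
    Ideal.Quotient.mk (idl k g) (monomial (g j - g i) 1 * poly k g v i) =
      Ideal.Quotient.mk (idl k g) (monomial (g i - g j) 1 * poly k g v j) := by
  classical
  rw [← sub_eq_zero, ← map_sub]
  refine eq_zero_of_qc (isMonomial k g) _ fun δ hδ => ?_
  rw [qc_mk _ hδ, coeff_sub, coeff_monomial_mul', coeff_monomial_mul', one_mul, one_mul,
    coeff_poly hv, coeff_poly hv, sub_eq_zero]
  exact hv.2 i j δ (fun h => hδ ((mem_exps k g δ).mpr h))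

theorem mk_indep {v : ι → (σ →₀ ℕ) → k} (hv : v ∈ V k g) {i j : ι} {β : σ →₀ ℕ}
    (hi : g i ≤ β) (hj : g j ≤ β) :
    Ideal.Quotient.mk (idl k g) (monomial (β - g i) 1 * poly k g v i) =
      Ideal.Quotient.mk (idl k g) (monomial (β - g j) 1 * poly k g v j) := by
  have hpt : ∀ x, g i x ≤ β x ∧ g j x ≤ β x := fun x => ⟨hi x, hj x⟩
  have e : β - g i = (β - (g i + (g j - g i))) + (g j - g i) := Finsupp.ext fun x => by
    have := hpt x; simp only [Finsupp.coe_tsub, Finsupp.coe_add, Pi.add_apply, Pi.sub_apply]; omega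
  have e' : β - g j = (β - (g i + (g j - g i))) + (g i - g j) := Finsupp.ext fun x => by
    have := hpt x; simp only [Finsupp.coe_tsub, Finsupp.coe_add, Pi.add_apply, Pi.sub_apply]; omega
  have h1 : ∀ a b : σ →₀ ℕ, monomial (a + b) (1 : k) = monomial a 1 * monomial b 1 := fun a b => by
    rw [monomial_mul, one_mul]
  rw [e, e', h1, h1, mul_assoc, mul_assoc, map_mul, map_mul _ _ (monomial (g i - g j) 1 * _),
    mk_eq hv i j]

variable (k g)

open Classical in
/-- The linear map on polynomials extending a coefficient system. -/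
def ext0 (v : ι → (σ →₀ ℕ) → k) : MvPolynomial σ k →ₗ[k] MvPolynomial σ k ⧸ idl k g :=
  (basisMonomials σ k).constr k fun β =>
    if h : InI g β then Ideal.Quotient.mk _ (monomial (β - g h.choose) 1 * poly k g v h.choose) else 0

variable {k g}

theorem ext0_monomial {v : ι → (σ →₀ ℕ) → k} (hv : v ∈ V k g) {i : ι} {β : σ →₀ ℕ} (hi : g i ≤ β) :
    ext0 k g v (monomial β 1) = Ideal.Quotient.mk _ (monomial (β - g i) 1 * poly k g v i) := by
  classical
  have h : InI g β := ⟨i, hi⟩
  rw [show monomial β (1 : k) = basisMonomials σ k β by simp, ext0, Module.Basis.constr_basis, dif_pos h]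
  exact mk_indep hv h.choose_spec hi

theorem ext0_monomial_mul {v : ι → (σ →₀ ℕ) → k} (hv : v ∈ V k g) (δ : σ →₀ ℕ) (a : k)
    (p : MvPolynomial σ k) (hp : p ∈ idl k g) :
    ext0 k g v (monomial δ a * p) = monomial δ a • ext0 k g v p := by
  classical
  conv_lhs => rw [as_sum p, Finset.mul_sum, map_sum]
  conv_rhs => rw [as_sum p, map_sum, Finset.smul_sum]
  refine Finset.sum_congr rfl fun β hβ => ?_
  obtain ⟨i, hi⟩ := (mem_exps k g β).mp (isMonomial k g p hp β hβ)
  have hi' : g i ≤ δ + β := le_trans hi le_add_self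
  have e : δ + β - g i = δ + (β - g i) := Finsupp.ext fun x => by
    have := hi x; simp only [Finsupp.coe_tsub, Finsupp.coe_add, Pi.add_apply, Pi.sub_apply]; omega
  rw [monomial_mul, show monomial (δ + β) (a * coeff β p) = (a * coeff β p) • monomial (δ + β) (1 : k) by
      simp [smul_monomial], show monomial β (coeff β p) = coeff β p • monomial β (1 : k) by
      simp [smul_monomial], map_smul, map_smul, ext0_monomial hv hi', ext0_monomial hv hi, e]
  rw [show monomial δ a = a • monomial δ (1 : k) by simp [smul_monomial], ← Ideal.Quotient.mkₐ_eq_mk k,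
    ← map_smul, ← map_smul]
  show Ideal.Quotient.mkₐ k (idl k g) _ = Ideal.Quotient.mkₐ k (idl k g) _
  congr 1
  rw [show monomial (δ + (β - g i)) (1 : k) = monomial δ 1 * monomial (β - g i) 1 by
    rw [monomial_mul, one_mul]]
  simp only [smul_eq_C_mul, map_mul, smul_eq_mul]
  rw [mul_one, show monomial δ a = C a * monomial δ (1 : k) by simp [C_mul_monomial]]
  ring

/-- The homomorphism of a coefficient system. -/
def hom {v : ι → (σ →₀ ℕ) → k} (hv : v ∈ V k g) : Tgt (idl k g) where
  toFun p := ext0 k g v p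
  map_add' p q := by simp
  map_smul' s p := by
    classical
    simp only [SetLike.val_smul, RingHom.id_apply, smul_eq_mul]
    induction s using MvPolynomial.induction_on' with
    | monomial δ a => exact ext0_monomial_mul hv δ a p p.2
    | add s t hs ht => rw [add_mul, map_add, hs, ht, add_smul]

variable (k g)

/-- The degree zero homomorphisms, defined by the images of the generators. -/
def H0 : Submodule k (Tgt (idl k g)) :=
  ⨆ α : {α : σ → ℤ // ∑ x, α x = 0}, tPiece (idl k g) α.1

/-- The coefficient system of a homomorphism. -/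
def toSys : Tgt (idl k g) →ₗ[k] (ι → (σ →₀ ℕ) → k) where
  toFun φ i γ := qc (isMonomial k g) γ (φ ⟨monomial (g i) 1, (mem_exps k g _).mpr (inI_gen g i)⟩)
  map_add' φ ψ := by funext i γ; simp
  map_smul' r φ := by funext i γ; simp

variable {k g}

theorem qc_eq_zero {γ : σ →₀ ℕ} (h : InI g γ) (q : MvPolynomial σ k ⧸ idl k g) :
    qc (isMonomial k g) γ q = 0 := by
  classical
  exact if_pos ((mem_exps k g γ).mpr h)

theorem toSys_ev (φ : Tgt (idl k g)) (i j : ι) {δ : σ →₀ ℕ} (hδ : ¬ InI g δ) :
    ev g (toSys k g φ) i j δ = qc (isMonomial k g) δ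
      (φ ⟨monomial (g i + (g j - g i)) 1, (mem_exps k g _).mpr ⟨i, le_self_add⟩⟩) := by
  classical
  obtain ⟨p, hp⟩ := Ideal.Quotient.mk_surjective
    (φ ⟨monomial (g i) 1, (mem_exps k g _).mpr (inI_gen g i)⟩)
  have e : (⟨monomial (g i + (g j - g i)) 1, (mem_exps k g _).mpr ⟨i, le_self_add⟩⟩ : idl k g) =
      (monomial (g j - g i) (1 : k)) • (⟨monomial (g i) 1, (mem_exps k g _).mpr (inI_gen g i)⟩ : idl k g) :=
    Subtype.ext (by simp [monomial_mul, add_comm])
  have hδ' : δ ∉ exps (idl k g) := fun h => hδ ((mem_exps k g δ).mp h)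
  rw [e, map_smul, ← hp, show monomial (g j - g i) (1 : k) • Ideal.Quotient.mk (idl k g) p =
    Ideal.Quotient.mk _ (monomial (g j - g i) 1 * p) from rfl, qc_mk _ hδ', coeff_monomial_mul', one_mul]
  unfold ev
  split_ifs with h
  · have hγ : δ - (g j - g i) ∉ exps (idl k g) := fun hh => hδ' (exps_mono hh tsub_le_self)
    show qc (isMonomial k g) _ _ = _
    rw [← hp, qc_mk _ hγ]
  · rfl

theorem toSys_mem (φ : Tgt (idl k g)) (hφ : φ ∈ H0 k g) : toSys k g φ ∈ V k g := by
  classical
  refine ⟨fun i γ h => ?_, fun i j δ hδ => ?_⟩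
  · rcases h with h | h
    · exact qc_eq_zero h _
    by_cases hin : InI g γ
    · exact qc_eq_zero hin _
    suffices H0 k g ≤ LinearMap.ker ((LinearMap.proj γ).comp ((LinearMap.proj i).comp (toSys k g))) from this hφ
    refine iSup_le fun α ψ hψ => ?_
    show qc (isMonomial k g) γ (ψ _) = 0
    by_cases hnn : ∀ x, 0 ≤ ((g i) x : ℤ) + α.1 x
    · obtain ⟨a, ha⟩ := Submodule.mem_span_singleton.mp
        ((hψ (g i) ((mem_exps k g _).mpr (inI_gen g i))).1 hnn)
      rw [← ha, map_smul, qc_mk _ (fun hh => hin ((mem_exps k g γ).mp hh)), coeff_monomial, if_neg,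
        smul_zero]
      intro he
      refine h ?_
      rw [← he]
      have : ((shift (g i) α.1).degree : ℤ) = (g i).degree := by
        rw [Finsupp.degree_eq_sum, Finsupp.degree_eq_sum, Nat.cast_sum, Nat.cast_sum]
        simp only [shift_apply hnn, Finset.sum_add_distrib, α.2, add_zero]
      exact_mod_cast this
    · push Not at hnn
      rw [(hψ (g i) ((mem_exps k g _).mpr (inI_gen g i))).2 hnn, map_zero]
  · rw [toSys_ev φ i j hδ, toSys_ev φ j i hδ]
    congr 2
    refine Subtype.ext (congrArg (fun s => monomial s (1 : k)) ?_)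
    exact Finsupp.ext fun x => by
      simp only [Finsupp.coe_tsub, Finsupp.coe_add, Pi.add_apply, Pi.sub_apply]; omega

theorem toSys_hom {v : ι → (σ →₀ ℕ) → k} (hv : v ∈ V k g) : toSys k g (hom hv) = v := by
  classical
  funext i γ
  show qc (isMonomial k g) γ (ext0 k g v (monomial (g i) 1)) = v i γ
  rw [ext0_monomial hv le_rfl, tsub_self, monomial_zero', C_1, one_mul]
  by_cases h : InI g γ
  · rw [qc_eq_zero h, hv.1 i γ (Or.inl h)]
  · rw [qc_mk _ (fun hh => h ((mem_exps k g γ).mp hh)), coeff_poly hv]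

theorem toSys_injective : Function.Injective (toSys k g) := by
  intro φ ψ h
  refine tgt_ext (isMonomial k g) fun β hβ => ?_
  obtain ⟨i, hi⟩ := (mem_exps k g β).mp hβ
  have e : (⟨monomial β 1, hβ⟩ : idl k g) =
      monomial (β - g i) (1 : k) • (⟨monomial (g i) 1, (mem_exps k g _).mpr (inI_gen g i)⟩ : idl k g) :=
    Subtype.ext (by simp [monomial_mul, tsub_add_cancel_of_le hi])
  rw [e, map_smul, map_smul]
  congr 1
  rw [← sub_eq_zero]
  refine eq_zero_of_qc (isMonomial k g) _ fun γ _ => ?_
  rw [map_sub, sub_eq_zero]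
  exact congrFun (congrFun h i) γ

open Classical in
/-- The component of multidegree `α`. -/
def comp (v : ι → (σ →₀ ℕ) → k) (α : σ → ℤ) : ι → (σ →₀ ℕ) → k :=
  fun i γ => if (fun x => (γ x : ℤ) - g i x) = α then v i γ else 0

theorem comp_mem {v : ι → (σ →₀ ℕ) → k} (hv : v ∈ V k g) (α : σ → ℤ) : comp (g := g) v α ∈ V k g := by
  classical
  refine ⟨fun i γ h => by unfold comp; split_ifs; exacts [hv.1 i γ h, rfl], fun i j δ hδ => ?_⟩
  have key : ∀ i j, ev g (comp (g := g) v α) i j δ =
      if (fun x => (δ x : ℤ) - max (g i x) (g j x : ℕ)) = α then ev g v i j δ else 0 := by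
    intro i j
    unfold ev comp
    by_cases h : g j - g i ≤ δ
    · simp only [if_pos h]
      refine if_congr ?_ rfl rfl
      refine Eq.congr_left (funext fun x => ?_)
      have := h x
      simp only [Finsupp.coe_tsub, Pi.sub_apply] at this ⊢
      omega
    · simp only [if_neg h, ite_self]
  rw [key, key, hv.2 i j δ hδ]
  refine if_congr ?_ rfl rfl
  simp only [max_comm]

theorem hom_comp_mem {v : ι → (σ →₀ ℕ) → k} (hv : v ∈ V k g) (α : σ → ℤ) :
    hom (comp_mem hv α) ∈ tPiece (idl k g) α := by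
  classical
  intro β hβ
  obtain ⟨i, hi⟩ := (mem_exps k g β).mp hβ
  have hval : hom (comp_mem hv α) ⟨monomial β 1, hβ⟩ =
      Ideal.Quotient.mk _ (monomial (β - g i) 1 * poly k g (comp (g := g) v α) i) :=
    ext0_monomial (comp_mem hv α) hi
  rw [hval, poly, Finset.mul_sum, map_sum]
  refine ⟨fun hnn => Submodule.sum_mem _ fun γ _ => ?_, fun hneg => Finset.sum_eq_zero fun γ _ => ?_⟩
  · unfold comp
    split_ifs with h
    · have e : β - g i + γ = shift β α := ((shift_eq_iff hnn).mpr fun x => by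
        have := congrFun h x; have := hi x
        simp only [Finsupp.coe_tsub, Finsupp.coe_add, Pi.add_apply, Pi.sub_apply]; omega).symm
      rw [monomial_mul, one_mul, e, show monomial (shift β α) (v i γ) = v i γ • monomial (shift β α) (1 : k) by
        simp [smul_monomial], ← Ideal.Quotient.mkₐ_eq_mk k, map_smul]
      exact Submodule.smul_mem _ _ (Submodule.mem_span_singleton_self _)
    · simp
  · unfold comp
    split_ifs with h
    · obtain ⟨x, hx⟩ := hneg
      have := congrFun h x; have := hi x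
      omega
    · simp

theorem hom_mem {v : ι → (σ →₀ ℕ) → k} (hv : v ∈ V k g) : hom hv ∈ H0 k g := by
  classical
  let D : Finset (σ → ℤ) := Finset.univ.biUnion fun i : ι =>
    (deg (g i).degree).image fun γ x => (γ x : ℤ) - g i x
  have hsum : hom hv = ∑ α ∈ D, hom (comp_mem hv α) := by
    apply toSys_injective
    rw [map_sum, toSys_hom]
    funext i γ
    simp only [toSys_hom, Finset.sum_apply, comp]
    rw [Finset.sum_ite_eq]
    split_ifs with h
    · rfl
    · refine hv.1 i γ (Or.inr fun e => h ?_)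
      simp only [D, Finset.mem_biUnion, Finset.mem_image]
      exact ⟨i, Finset.mem_univ i, γ, mem_deg.mpr e, rfl⟩
  rw [hsum]
  refine Submodule.sum_mem _ fun α hα => ?_
  simp only [D, Finset.mem_biUnion, Finset.mem_image] at hα
  obtain ⟨i, -, γ, hγ, rfl⟩ := hα
  refine le_iSup (fun a : {α : σ → ℤ // ∑ x, α x = 0} => tPiece (idl k g) a.1)
    ⟨fun x => (γ x : ℤ) - g i x, ?_⟩ (hom_comp_mem hv _)
  rw [Finset.sum_sub_distrib, ← Nat.cast_sum, ← Nat.cast_sum, ← Finsupp.degree_eq_sum,
    ← Finsupp.degree_eq_sum, mem_deg.mp hγ, sub_self]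

theorem finrank_H0 : Module.finrank k ↥(H0 k g) = Module.finrank k ↥(V k g) :=
  LinearEquiv.finrank_eq <| LinearEquiv.ofBijective
    (((toSys k g).comp (H0 k g).subtype).codRestrict (V k g) fun φ => toSys_mem φ.1 φ.2)
    ⟨fun φ ψ h => Subtype.ext (toSys_injective (congrArg Subtype.val h)),
      fun v => ⟨⟨hom v.2, hom_mem v.2⟩, Subtype.ext (toSys_hom v.2)⟩⟩

/-- Evaluation of an optional class against parameters. -/
def val {F : Type} (p : F → k) : Option F → k
  | none => 0
  | some f => p f

/-- The class of the value at `δ`. -/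
def evc {F : Type} (cls : ι → (σ →₀ ℕ) → Option F) (i j : ι) (δ : σ →₀ ℕ) : Option F :=
  open Classical in if g j - g i ≤ δ then cls i (δ - (g j - g i)) else none

theorem finrank_of_classes {F : Type} [Fintype F] (cls : ι → (σ →₀ ℕ) → Option F)
    (hsupp : ∀ i γ f, cls i γ = some f → ¬ InI g γ ∧ γ.degree = (g i).degree)
    (hlink : ∀ i j δ f, ¬ InI g δ → evc (g := g) cls i j δ = some f → evc (g := g) cls j i δ = some f)
    (ri : F → ι) (rγ : F → σ →₀ ℕ) (hrep : ∀ f, cls (ri f) (rγ f) = some f)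
    (hall : ∀ v ∈ V k g, ∀ i γ, ¬ InI g γ → γ.degree = (g i).degree →
      v i γ = val (fun f => v (ri f) (rγ f)) (cls i γ)) :
    Module.finrank k ↥(H0 k g) = Fintype.card F := by
  classical
  rw [finrank_H0, ← Module.finrank_fintype_fun_eq_card k]
  have hlink' : ∀ i j δ, ¬ InI g δ → evc (g := g) cls i j δ = evc (g := g) cls j i δ := by
    intro i j δ hδ
    cases h : evc (g := g) cls i j δ with
    | some f => exact (hlink i j δ f hδ h).symm
    | none =>
      cases h' : evc (g := g) cls j i δ with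
      | none => rfl
      | some f => rw [hlink j i δ f hδ h'] at h; exact absurd h (by simp)
  have hmem : ∀ p : F → k, (fun i γ => val p (cls i γ)) ∈ V k g := by
    intro p
    refine ⟨fun i γ h => ?_, fun i j δ hδ => ?_⟩
    · cases hc : cls i γ with
      | none => simp [val, hc]
      | some f => exact absurd (hsupp i γ f hc) (fun ⟨a, b⟩ => h.elim a fun h => h b)
    · have key : ∀ i j, ev g (fun i γ => val p (cls i γ)) i j δ = val p (evc (g := g) cls i j δ) := by
        intro i j; unfold ev evc; split_ifs <;> rfl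
      rw [key, key, hlink' i j δ hδ]
  let e : ↥(V k g) ≃ₗ[k] (F → k) :=
    { toFun := fun v f => v.1 (ri f) (rγ f)
      map_add' := fun v w => rfl
      map_smul' := fun r v => rfl
      invFun := fun p => ⟨fun i γ => val p (cls i γ), hmem p⟩
      left_inv := fun v => Subtype.ext <| funext fun i => funext fun γ => by
        by_cases h : InI g γ ∨ γ.degree ≠ (g i).degree
        · rw [v.2.1 i γ h]
          cases hc : cls i γ with
          | none => simp [val, hc]
          | some f => exact absurd (hsupp i γ f hc) (fun ⟨a, b⟩ => h.elim a fun h => h b)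
        · push Not at h
          exact (hall v.1 v.2 i γ h.1 h.2).symm
      right_inv := fun p => funext fun f => by simp [hrep, val] }
  exact e.finrank_eq

end Groth.Agent.Lib.HilbHom62
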