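import Groth.Agent.Lib.HilbHom62.TwoPlanes
import Mathlib.Algebra.Order.Antidiag.FinsuppEquiv

/-!
# Degree zero homomorphisms of `x₀·(x₀, …, x_{n-1}) + J'`
-/

set_option autoImplicit false
set_option linter.unusedSectionVars false

noncomputable section

open W4c1hilbpn

namespace Groth.Agent.Lib.HilbHom62.Borel

universe u

variable {n : ℕ}

/-- The second variable. -/
def one (n : ℕ) : Fin (n + 1) := ⟨min 1 n, by omega⟩

theorem one_val (h : 1 ≤ n) : (one n).val = 1 := by simp [one]; omega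

/-- The indices of the generators `x₀ x_i`. -/
abbrev L (n : ℕ) := {i : Fin (n + 1) // i.val + 1 ≤ n}

/-- The generators `x₀ x_i`. -/
def gL (i : L n) : Fin (n + 1) →₀ ℕ := e1 0 + e1 i.1

theorem gL_sub {i i' : L n} (h : i ≠ i') : gL i' - gL i = e1 i'.1 := by
  refine Finsupp.ext fun x => ?_
  have : i.1 ≠ i'.1 := fun e => h (Subtype.ext e)
  simp only [gL, Finsupp.coe_tsub, Pi.sub_apply, Finsupp.add_apply, e1_apply]
  split_ifs <;> simp_all

theorem gL_le {γ : Fin (n + 1) →₀ ℕ} (i : L n) (h0 : 0 < γ 0) (hi : 0 < γ i.1) (hi0 : i.1.val ≠ 0) :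
    gL i ≤ γ := fun x => by
  simp only [gL, Finsupp.add_apply, e1_apply]
  split_ifs with h h' h'
  · exact absurd (congrArg Fin.val (h'.trans h.symm)) (by simpa using hi0)
  · subst h; omega
  · subst h'; omega
  · omega

theorem two_le {γ : Fin (n + 1) →₀ ℕ} (hn : 1 ≤ n) (h0 : 2 ≤ γ 0) : InI (gL (n := n)) γ :=
  ⟨⟨0, by simpa using hn⟩, fun x => by
    simp only [gL, Finsupp.add_apply, e1_apply]
    split_ifs with h
    · subst h; omega
    · omega⟩

theorem inI_gL_zero {γ : Fin (n + 1) →₀ ℕ} (h : InI (gL (n := n)) γ) : 0 < γ 0 := by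
  obtain ⟨i, hi⟩ := h
  have := hi 0
  simp [gL, e1_apply] at this
  omega

theorem eq_single {γ : Fin (n + 1) →₀ ℕ} {x : Fin (n + 1)} (h : ∀ y, y ≠ x → γ y = 0) :
    γ = Finsupp.single x γ.degree := by
  have e : γ = Finsupp.single x (γ x) := Finsupp.ext fun y => by
    rw [Finsupp.single_apply]
    split_ifs with hy
    · rw [hy]
    · exact h y (Ne.symm hy)
  conv_rhs => rw [e, Finsupp.degree_single]
  exact e

theorem form0 (hn : 1 ≤ n) {γ : Fin (n + 1) →₀ ℕ} {d : ℕ} (h : ¬ InI (gL (n := n)) γ) (h0 : 0 < γ 0)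
    (hd : γ.degree = d + 1) : γ = e1 0 + Finsupp.single (Fin.last n) d := by
  obtain ⟨r, rfl, hr⟩ := exists_add_e1 hd h0
  congr 1
  rw [← hr]
  refine eq_single fun y hy => ?_
  by_contra hne
  have hy' : y.val + 1 ≤ n := by
    have := y.isLt
    have : y.val ≠ n := fun e => hy (Fin.ext (by simp [e]))
    omega
  by_cases hy0 : y.val = 0
  · obtain rfl : y = 0 := Fin.ext (by simpa using hy0)
    exact h (two_le hn (by simp [e1_apply]; omega))
  · exact h ⟨⟨y, hy'⟩, gL_le _ (by simp [e1_apply]) (by simp; omega) hy0⟩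

section Combine

variable {R : Type} [Fintype R] (gR : R → Fin (n + 1) →₀ ℕ)

/-- All generators. -/
abbrev G : L n ⊕ R → Fin (n + 1) →₀ ℕ := Sum.elim gL gR

theorem inI_iff (γ : Fin (n + 1) →₀ ℕ) : InI (G gR) γ ↔ InI (gL (n := n)) γ ∨ InI gR γ := by
  constructor
  · rintro ⟨i | j, h⟩
    · exact Or.inl ⟨i, h⟩
    · exact Or.inr ⟨j, h⟩
  · rintro (⟨i, h⟩ | ⟨j, h⟩)
    · exact ⟨Sum.inl i, h⟩
    · exact ⟨Sum.inr j, h⟩

theorem notInI_of {γ : Fin (n + 1) →₀ ℕ} (h0 : γ 0 = 0) (h : ¬ InI gR γ) : ¬ InI (G gR) γ := fun hin =>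
  ((inI_iff gR γ).mp hin).elim (fun hl => by have := inI_gL_zero hl; omega) h

/-- The special exponent `x₁ x_n`. -/
def gs (n : ℕ) : Fin (n + 1) →₀ ℕ := e1 (one n) + e1 (Fin.last n)

variable (Sp : L n → Prop) (Ls : Fin (n + 1) → Prop)

/-- The parameters on the first generators. -/
abbrev FL := L n ⊕ ({i : L n // Sp i} ⊕ {s : Fin (n + 1) // Ls s})

open Classical in
/-- The classes on the first generators. -/
def clsL (i : L n) (γ : Fin (n + 1) →₀ ℕ) : Option (FL Sp Ls) :=
  if InI (G gR) γ ∨ γ.degree ≠ 2 then none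
  else if 0 < γ 0 then some (.inl i)
  else if h : Sp i ∧ γ = gs n then some (.inr (.inl ⟨i, h.1⟩))
  else if h : i.1.val ≠ 0 ∧ ∃ s, Ls s ∧ γ = e1 i.1 + e1 s then some (.inr (.inr ⟨h.2.choose, h.2.choose_spec.1⟩))
  else none

variable {gR Sp Ls}

theorem clsL_cases {i : L n} {γ : Fin (n + 1) →₀ ℕ} {f : FL Sp Ls} (h : clsL gR Sp Ls i γ = some f) :
    (¬ InI (G gR) γ ∧ γ.degree = 2) ∧ ((f = .inl i ∧ 0 < γ 0) ∨
      (∃ hi : Sp i, f = .inr (.inl ⟨i, hi⟩) ∧ γ = gs n ∧ γ 0 = 0) ∨
      ∃ s : {s // Ls s}, f = .inr (.inr s) ∧ i.1.val ≠ 0 ∧ γ = e1 i.1 + e1 s.1 ∧ γ 0 = 0 ∧ ¬ (Sp i ∧ γ = gs n)) := by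
  unfold clsL at h
  split_ifs at h with h1 h2 h3 h4
  all_goals push Not at h1
  · exact ⟨h1, Or.inl ⟨(Option.some.inj h).symm, h2⟩⟩
  · exact ⟨h1, Or.inr (Or.inl ⟨h3.1, (Option.some.inj h).symm, h3.2, by omega⟩)⟩
  · exact ⟨h1, Or.inr (Or.inr ⟨⟨h4.2.choose, h4.2.choose_spec.1⟩, (Option.some.inj h).symm, h4.1,
      h4.2.choose_spec.2, by omega, h3⟩)⟩

theorem clsL_a {i : L n} {γ : Fin (n + 1) →₀ ℕ} (h : ¬ InI (G gR) γ) (hd : γ.degree = 2) (h0 : 0 < γ 0) :
    clsL gR Sp Ls i γ = some (.inl i) := by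
  rw [clsL, if_neg (by push Not; exact ⟨h, hd⟩), if_pos h0]

theorem clsL_sp {i : L n} (hi : Sp i) (h : ¬ InI (G gR) (gs n)) (hn : 1 ≤ n) :
    clsL gR Sp Ls i (gs n) = some (.inr (.inl ⟨i, hi⟩)) := by
  have h0 : gs n 0 = 0 := by
    simp only [gs, Finsupp.add_apply, e1_apply]
    rw [if_neg (fun e => by have := congrArg Fin.val e; simp [one_val hn] at this),
      if_neg (fun e => by have := congrArg Fin.val e; simp at this; omega)]
  rw [clsL, if_neg (by push Not; exact ⟨h, by simp [gs, Finsupp.degree_single]⟩), if_neg (by omega),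
    dif_pos ⟨hi, rfl⟩]

theorem clsL_l {i : L n} {s : Fin (n + 1)} (hi : i.1.val ≠ 0) (hs : Ls s)
    (h : ¬ InI (G gR) (e1 i.1 + e1 s)) (hsp : ¬ (Sp i ∧ e1 i.1 + e1 s = gs n)) (hs0 : s.val ≠ 0) :
    clsL gR Sp Ls i (e1 i.1 + e1 s) = some (.inr (.inr ⟨s, hs⟩)) := by
  have h0 : (e1 i.1 + e1 s) 0 = 0 := by
    simp only [Finsupp.add_apply, e1_apply]
    rw [if_neg (fun e => hi (by simp [e])), if_neg (fun e => hs0 (by simp [e]))]
  have hex : i.1.val ≠ 0 ∧ ∃ s', Ls s' ∧ e1 i.1 + e1 s = e1 i.1 + e1 s' := ⟨hi, s, hs, rfl⟩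
  rw [clsL, if_neg (by push Not; exact ⟨h, by simp [Finsupp.degree_single]⟩), if_neg (by omega),
    dif_neg hsp, dif_pos hex]
  have := TwoPlanes.e1_inj (add_left_cancel hex.2.choose_spec.2)
  exact congrArg some (congrArg Sum.inr (congrArg Sum.inr (Subtype.ext this.symm)))

/-- The combination of the classes. -/
def cls {FR : Type} (clsR : R → (Fin (n + 1) →₀ ℕ) → Option FR) :
    L n ⊕ R → (Fin (n + 1) →₀ ℕ) → Option (FL Sp Ls ⊕ FR) :=
  Sum.elim (fun i γ => (clsL gR Sp Ls i γ).map Sum.inl) fun j γ => (clsR j γ).map Sum.inr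

variable (k : Type u) [Field k]

theorem finrank {FR : Type} [Fintype FR] [Fintype {i : L n // Sp i}] [Fintype {s : Fin (n + 1) // Ls s}]
    (hn : 2 ≤ n) (hg0 : ∀ j, gR j 0 = 0) (hgN : ∀ j, gR j (Fin.last n) = 0) (hg2 : ∀ j, 2 ≤ (gR j).degree)
    (p : L n) (hp : p.1.val ≠ 0)
    (S1 : ∀ i, Sp i → ¬ InI (G gR) (gs n))
    (S1' : ∀ i, Sp i → ∀ i' : L n, i' ≠ i → InI (G gR) (gs n + e1 i'.1))
    (S1c : ∀ i, Sp i → ∀ j, InI (G gR) (gs n + (gR j - gL i)))
    (S3 : ∀ (i : L n) γ, ¬ InI (G gR) γ → γ.degree = 2 → γ 0 = 0 → ¬ (Sp i ∧ γ = gs n) →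
      (i.1.val = 0 ∨ γ i.1 = 0) →
      (∃ i' : L n, i' ≠ i ∧ ¬ InI (G gR) (γ + e1 i'.1)) ∨ ∃ j, ¬ InI (G gR) (γ + (gR j - gL i)))
    (S4 : ∀ (i : L n) (s : Fin (n + 1)), i.1.val ≠ 0 → s.val ≠ 0 → ¬ InI (G gR) (e1 i.1 + e1 s) →
      ¬ (Sp i ∧ e1 i.1 + e1 s = gs n) → Ls s ∧ (i = p ∨ ¬ InI (G gR) (e1 i.1 + e1 s + e1 p.1)))
    (S4' : ∀ s, Ls s → ¬ InI (G gR) (e1 p.1 + e1 s) ∧ s.val ≠ 0 ∧ ¬ (Sp p ∧ e1 p.1 + e1 s = gs n))
    (clsR : R → (Fin (n + 1) →₀ ℕ) → Option FR)
    (R1 : ∀ j γ f, clsR j γ = some f → ¬ InI (G gR) γ ∧ γ.degree = (gR j).degree)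
    (R2 : ∀ j j' δ f, ¬ InI (G gR) δ → evc (g := gR) clsR j j' δ = some f → evc (g := gR) clsR j' j δ = some f)
    (R3 : ∀ j γ f, clsR j γ = some f → γ ≠ Finsupp.single (Fin.last n) γ.degree)
    (ri : FR → R) (rγ : FR → Fin (n + 1) →₀ ℕ) (R4 : ∀ f, clsR (ri f) (rγ f) = some f)
    (R5 : ∀ v ∈ V k (G gR), ∀ j γ, ¬ InI (G gR) γ → γ.degree = (gR j).degree →
      v (Sum.inr j) γ = val (fun f => v (Sum.inr (ri f)) (rγ f)) (clsR j γ)) :
    Module.finrank k ↥(H0 k (G gR)) = Fintype.card (FL Sp Ls) + Fintype.card FR := by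
  classical
  have hn1 : 1 ≤ n := by omega
  have hgLdeg : ∀ i : L n, (gL i).degree = 2 := fun i => by simp [gL, Finsupp.degree_single]
  have hgs0 : gs n 0 = 0 := by
    simp only [gs, Finsupp.add_apply, e1_apply]
    rw [if_neg (fun e => by have := congrArg Fin.val e; simp [one_val hn1] at this),
      if_neg (fun e => by have := congrArg Fin.val e; simp at this; omega)]
  have hgse : (e1 (0 : Fin (n + 1)) + e1 (Fin.last n)) 0 = 1 := by
    simp only [Finsupp.add_apply, e1_apply]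
    rw [if_pos trivial, if_neg (fun e => by have := congrArg Fin.val e; simp at this; omega)]
  have ha0 : ¬ InI (G gR) (e1 0 + e1 (Fin.last n)) := fun hin => by
    rcases (inI_iff gR _).mp hin with ⟨i, hi⟩ | ⟨j, hj⟩
    · have h1 := hi i.1
      have h2 := hi 0
      have hne : Fin.last n ≠ i.1 := fun e => by
        have h' := congrArg Fin.val e; have := i.2; simp at h'; omega
      by_cases h0 : (0 : Fin (n + 1)) = i.1
      · rw [hgse] at h2
        simp [gL, e1_apply, ← h0] at h2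
      · simp [gL, e1_apply, h0, hne] at h1
    · obtain ⟨x, hx⟩ : ∃ x, gR j x ≠ 0 := by
        by_contra hc
        push Not at hc
        have := hg2 j
        rw [show gR j = 0 from Finsupp.ext hc] at this
        simp at this
      have h1 := hj x
      have q1 : (0 : Fin (n + 1)) ≠ x := fun e => hx (e ▸ hg0 j)
      have q2 : Fin.last n ≠ x := fun e => hx (e ▸ hgN j)
      simp [e1_apply, q1, q2] at h1
      exact hx h1
  rw [← Fintype.card_sum]
  refine finrank_of_classes (cls (gR := gR) (Sp := Sp) (Ls := Ls) clsR) ?_ ?_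
    (fun f => f.elim (fun a => Sum.inl (a.elim id fun b => b.elim (fun i => i.1) fun _ => p)) fun b => Sum.inr (ri b))
    (fun f => f.elim (fun a => a.elim (fun _ => e1 0 + e1 (Fin.last n))
      fun b => b.elim (fun _ => gs n) fun s => e1 p.1 + e1 s.1) rγ) ?_ ?_
  · rintro (i | j) γ f h
    · obtain ⟨f', hf', rfl⟩ := Option.map_eq_some_iff.mp h
      exact ⟨(clsL_cases hf').1.1, (clsL_cases hf').1.2.trans (hgLdeg i).symm⟩
    · obtain ⟨f', hf', rfl⟩ := Option.map_eq_some_iff.mp h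
      exact R1 j γ f' hf'
  · rintro a a' δ f hδ h
    unfold evc at h
    split_ifs at h with hle
    have hδe := (tsub_add_cancel_of_le hle).symm
    rcases a with i | j
    · obtain ⟨f', hf', rfl⟩ := Option.map_eq_some_iff.mp h
      obtain ⟨⟨hγI, hγd⟩, hcase⟩ := clsL_cases hf'
      rcases a' with i' | j'
      · rcases ne_or_eq i i' with hne | rfl
        swap
        · unfold evc; rw [if_pos hle]; exact h
        simp only [Sum.elim_inl, gL_sub hne] at hδe hγI hγd hcase
        rcases hcase with ⟨rfl, h0⟩ | ⟨hi, rfl, hγ, -⟩ | ⟨s, rfl, hi0, hγ, hγ0, hnsp⟩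
        · refine absurd ((inI_iff gR δ).mpr (Or.inl ?_)) hδ
          rw [hδe]
          by_cases h00 : i'.1.val = 0
          · refine two_le hn1 ?_
            rw [Finsupp.add_apply, e1_apply, if_pos (Fin.ext (by simpa using h00))]
            omega
          · refine ⟨i', gL_le i' ?_ ?_ h00⟩
            · rw [Finsupp.add_apply]; omega
            · simp [e1_apply]
        · exact absurd (hδe ▸ hγ.symm ▸ S1' i hi i' hne.symm) hδ
        · rw [hγ] at hδe hγI hnsp
          have hs0 : s.1.val ≠ 0 := (S4' s.1 s.2).2.1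
          by_cases h00 : i'.1.val = 0
          · refine absurd ((inI_iff gR δ).mpr (Or.inl ⟨i, gL_le i ?_ ?_ hi0⟩)) hδ
            · rw [hδe, Finsupp.add_apply, e1_apply i'.1, if_pos (Fin.ext (by simpa using h00))]
              omega
            · rw [hδe]; simp [e1_apply]
          unfold evc
          simp only [Sum.elim_inl, gL_sub hne.symm]
          have hperm : δ = (e1 i'.1 + e1 s.1) + e1 i.1 := by rw [hδe]; abel
          rw [if_pos (by rw [hperm]; exact le_add_self), hperm, add_tsub_cancel_right]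
          have hI' : ¬ InI (G gR) (e1 i'.1 + e1 s.1) := fun ⟨b, hb⟩ =>
            hδ ⟨b, le_trans hb (by rw [hperm]; exact le_self_add)⟩
          have hsp' : ¬ (Sp i' ∧ e1 i'.1 + e1 s.1 = gs n) := fun ⟨h1, h2⟩ =>
            hδ (by rw [hperm, h2]; exact S1' i' h1 i hne)
          show Option.map _ _ = _
          rw [clsL_l h00 s.2 hI' hsp' hs0]
          rfl
      · exfalso
        simp only [Sum.elim_inl, Sum.elim_inr] at hδe hγI hγd hcase
        rcases hcase with ⟨rfl, h0⟩ | ⟨hi, rfl, hγ, -⟩ | ⟨s, rfl, hi0, hγ, hγ0, hnsp⟩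
        · obtain ⟨x, hx⟩ : ∃ x, (gR j' - gL i) x ≠ 0 := by
            by_contra hc
            push Not at hc
            have hle' : gR j' ≤ e1 i.1 := fun x => by
              have := hc x
              simp only [gL, Finsupp.coe_tsub, Pi.sub_apply, Finsupp.add_apply, e1_apply] at this ⊢
              by_cases hx0 : (0 : Fin (n + 1)) = x
              · subst hx0; have := hg0 j'; omega
              · rw [if_neg hx0] at this; omega
            obtain ⟨r, hr⟩ := exists_add_of_le hle'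
            have hd := congrArg Finsupp.degree hr
            rw [map_add, Finsupp.degree_single] at hd
            have := hg2 j'
            omega
          have hxR : gR j' x ≠ 0 := fun e => hx (by simp [e])
          have hx0 : x.val ≠ 0 := fun e => hxR (by rw [show x = 0 from Fin.ext (by simpa using e)]; exact hg0 j')
          have hxn : x.val + 1 ≤ n := by
            have := x.isLt
            have : x.val ≠ n := fun e => hxR (by rw [show x = Fin.last n from Fin.ext (by simpa using e)]; exact hgN j')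
            omega
          refine hδ ((inI_iff gR δ).mpr (Or.inl ⟨⟨x, hxn⟩, gL_le _ ?_ ?_ hx0⟩))
          · rw [hδe, Finsupp.add_apply]; omega
          · rw [hδe, Finsupp.add_apply]; dsimp only; omega
        · exact hδ (hδe ▸ hγ.symm ▸ S1c i hi j')
        · refine hδ ((inI_iff gR δ).mpr (Or.inr ⟨j', fun x => ?_⟩))
          rw [hδe, hγ]
          simp only [gL, Finsupp.coe_tsub, Finsupp.coe_add, Pi.add_apply, Pi.sub_apply, e1_apply]
          by_cases hx0 : (0 : Fin (n + 1)) = x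
          · subst hx0; have := hg0 j'; omega
          · rw [if_neg hx0]; omega
    · obtain ⟨f', hf', rfl⟩ := Option.map_eq_some_iff.mp h
      rcases a' with i' | j'
      · exfalso
        simp only [Sum.elim_inl, Sum.elim_inr] at hδe hf'
        have hm0 : 0 < (gL i' - gR j) 0 := by
          simp only [gL, Finsupp.coe_tsub, Pi.sub_apply, Finsupp.add_apply, e1_apply]
          have := hg0 j
          simp only [if_pos trivial]
          omega
        generalize hγ : δ - (gL i' - gR j) = γ at hδe hf'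
        have hδL : ¬ InI (gL (n := n)) δ := fun hh => hδ ((inI_iff gR δ).mpr (Or.inl hh))
        have hδ0 : 0 < δ 0 := by rw [hδe, Finsupp.add_apply]; omega
        obtain ⟨d, hd⟩ : ∃ d, δ.degree = d + 1 := ⟨δ.degree - 1, by
          have : δ 0 ≤ δ.degree := by
            rw [Finsupp.degree_eq_sum]; exact Finset.single_le_sum (fun y _ => Nat.zero_le _) (Finset.mem_univ 0)
          omega⟩
        have hform := form0 hn1 hδL hδ0 hd
        refine R3 j γ f' hf' (eq_single fun y hy => ?_)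
        have hy2 := DFunLike.congr_fun (hδe.symm.trans hform) y
        simp only [Finsupp.add_apply, Finsupp.single_apply, e1_apply] at hy2
        rw [if_neg (Ne.symm hy)] at hy2
        by_cases hy0 : (0 : Fin (n + 1)) = y
        · subst hy0
          rw [if_pos rfl] at hy2
          omega
        · rw [if_neg hy0] at hy2
          omega
      · have := R2 j j' δ f' hδ (by unfold evc; rw [if_pos (show gR j' - gR j ≤ δ from hle)]; exact hf')
        unfold evc at this ⊢
        simp only [Sum.elim_inr]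
        split_ifs at this ⊢ with hh
        show Option.map _ _ = _
        rw [this]
        rfl
  · rintro ((i | ⟨i, hi⟩ | ⟨s, hs⟩) | b)
    · show Option.map _ (clsL gR Sp Ls i (e1 0 + e1 (Fin.last n))) = _
      rw [clsL_a ha0 (by simp [Finsupp.degree_single]) (by rw [hgse]; omega)]
      rfl
    · show Option.map _ (clsL gR Sp Ls i (gs n)) = _
      rw [clsL_sp hi (S1 i hi) hn1]
      rfl
    · show Option.map _ (clsL gR Sp Ls p (e1 p.1 + e1 s)) = _
      obtain ⟨h1, h2, h3⟩ := S4' s hs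
      rw [clsL_l hp hs h1 h3 h2]
      rfl
    · show Option.map _ (clsR (ri b) (rγ b)) = _
      rw [R4]
      rfl
  · rintro v hv (i | j) γ hγ hdeg
    swap
    · rw [R5 v hv j γ hγ hdeg]
      show val _ _ = val _ (Option.map _ (clsR j γ))
      cases clsR j γ <;> rfl
    replace hdeg : γ.degree = 2 := hdeg.trans (hgLdeg i)
    show v (Sum.inl i) γ = val _ (Option.map _ (clsL gR Sp Ls i γ))
    rcases Nat.eq_zero_or_pos (γ 0) with h0 | h0
    swap
    · rw [clsL_a hγ hdeg h0]
      show v (Sum.inl i) γ = v (Sum.inl i) (e1 0 + e1 (Fin.last n))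
      rw [form0 hn1 (fun hh => hγ ((inI_iff gR γ).mpr (Or.inl hh))) h0 hdeg]
    by_cases hsp : Sp i ∧ γ = gs n
    · obtain ⟨hi, rfl⟩ := hsp
      rw [clsL_sp hi hγ hn1]
      rfl
    by_cases hkill : i.1.val = 0 ∨ γ i.1 = 0
    · have hnone : clsL gR Sp Ls i γ = none := by
        cases hc : clsL gR Sp Ls i γ with
        | none => rfl
        | some f =>
          rcases (clsL_cases hc).2 with ⟨-, h⟩ | ⟨hi, -, h, -⟩ | ⟨s, -, hi0, hs, -, -⟩
          · omega
          · exact absurd ⟨hi, h⟩ hsp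
          · have : 0 < γ i.1 := by rw [hs]; simp [e1_apply]
            omega
      rw [hnone]
      show v (Sum.inl i) γ = 0
      rcases S3 i γ hγ hdeg h0 hsp hkill with ⟨i', hne, hδ⟩ | ⟨j, hδ⟩
      · have h2 := hv.2 (Sum.inl i) (Sum.inl i') _ hδ
        simp only [ev, Sum.elim_inl, gL_sub hne, gL_sub hne.symm] at h2
        rw [if_pos le_add_self, if_neg, add_tsub_cancel_right] at h2
        · exact h2
        intro hle
        have h1 := hle i.1
        have q : i'.1 ≠ i.1 := fun e => hne (Subtype.ext e)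
        rw [Finsupp.add_apply, e1_apply, e1_apply, if_pos rfl, if_neg q] at h1
        rcases hkill with hk | hk
        · rw [show i.1 = 0 from Fin.ext (by simpa using hk), h0] at h1; omega
        · omega
      · have h2 := hv.2 (Sum.inl i) (Sum.inr j) _ hδ
        simp only [ev, Sum.elim_inl, Sum.elim_inr] at h2
        rw [if_pos le_add_self, if_neg, add_tsub_cancel_right] at h2
        · exact h2
        intro hle
        have h1 := hle 0
        simp only [gL, Finsupp.coe_tsub, Finsupp.coe_add, Pi.add_apply, Pi.sub_apply, e1_apply, if_pos trivial, h0,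
          hg0] at h1
        omega
    push Not at hkill
    obtain ⟨r, rfl, hr⟩ := exists_add_e1 (d := 1) hdeg (Nat.pos_of_ne_zero hkill.2)
    obtain ⟨s, rfl⟩ := exists_e1 hr
    have hs0 : s.val ≠ 0 := fun e => by
      rw [show s = 0 from Fin.ext (by simpa using e)] at h0
      simp [e1_apply] at h0
    obtain ⟨hLs, hlink⟩ := S4 i s hkill.1 hs0 hγ hsp
    rw [clsL_l hkill.1 hLs hγ hsp hs0]
    show v (Sum.inl i) _ = v (Sum.inl p) (e1 p.1 + e1 s)
    rcases eq_or_ne i p with rfl | hne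
    · rfl
    have hδ := hlink.resolve_left hne
    have h2 := hv.2 (Sum.inl i) (Sum.inl p) _ hδ
    simp only [ev, Sum.elim_inl, gL_sub hne, gL_sub hne.symm] at h2
    rw [if_pos le_add_self, if_pos (le_trans le_self_add le_self_add), add_tsub_cancel_right,
      show e1 i.1 + e1 s + e1 p.1 = (e1 p.1 + e1 s) + e1 i.1 by abel, add_tsub_cancel_right] at h2
    exact h2

end Combine

end Groth.Agent.Lib.HilbHom62.Borel
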