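import Groth.Agent.Lib.HilbHom62.BorelPoint

/-!
# The dimension counts for the four families
-/

set_option autoImplicit false
set_option linter.unusedSectionVars false

noncomputable section

open W4c1hilbpn MvPolynomial

namespace Groth.Agent.Lib.HilbHom62.Borel

universe u

variable {n q m : ℕ} (k : Type u) [Field k]

theorem one_eq (hn : 1 ≤ n) : (1 : Fin (n + 1)) = one n := by
  refine Fin.ext ?_
  rw [one_val hn, Fin.val_one', Nat.mod_eq_of_lt (by omega)]

theorem X_mul_eq (i j : Fin (n + 1)) :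
    (X i * X j : MvPolynomial (Fin (n + 1)) k) = monomial (e1 i + e1 j) 1 := by
  simp [X, monomial_mul]

theorem idl_M (hn : 1 ≤ n) :
    Ideal.span ({f : MvPolynomial (Fin (n + 1)) k | ∃ i : Fin (n + 1), i.val + 1 ≤ n ∧ f = X 0 * X i} ∪
      {f : MvPolynomial (Fin (n + 1)) k | ∃ i : Fin (n + 1), 1 ≤ i.val ∧ i.val ≤ m ∧ f = X 1 ^ q * X i}) =
      idl k (G (gM (n := n) (m := m) q)) := by
  have hX : ∀ i : Fin (n + 1), (X 1 ^ q * X i : MvPolynomial (Fin (n + 1)) k) =
      monomial (Finsupp.single (one n) q + e1 i) 1 := fun i => by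
    rw [one_eq hn, X_pow_eq_monomial, X, monomial_mul, one_mul]
  rw [idl, ← Set.range_comp]
  congr 1
  ext f
  constructor
  · rintro (⟨i, hi, rfl⟩ | ⟨i, hi, hi', rfl⟩)
    · exact ⟨Sum.inl ⟨i, hi⟩, (X_mul_eq k 0 i).symm⟩
    · exact ⟨Sum.inr ⟨i, hi, hi'⟩, (hX i).symm⟩
  · rintro ⟨⟨i, hi⟩ | ⟨i, hi, hi'⟩, rfl⟩
    · exact Or.inl ⟨i, hi, (X_mul_eq k 0 i).symm⟩
    · exact Or.inr ⟨i, hi, hi', (hX i).symm⟩

theorem idl_P (hn : 1 ≤ n) :
    Ideal.span ({f : MvPolynomial (Fin (n + 1)) k | ∃ i : Fin (n + 1), i.val + 1 ≤ n ∧ f = X 0 * X i} ∪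
      {X 1 ^ q}) = idl k (G (gP n q)) := by
  have hX : (X 1 ^ q : MvPolynomial (Fin (n + 1)) k) = monomial (Finsupp.single (one n) q) 1 := by
    rw [one_eq hn, X_pow_eq_monomial]
  rw [idl, ← Set.range_comp]
  congr 1
  ext f
  constructor
  · rintro (⟨i, hi, rfl⟩ | hf)
    · exact ⟨Sum.inl ⟨i, hi⟩, (X_mul_eq k 0 i).symm⟩
    · rw [Set.mem_singleton_iff] at hf
      subst hf
      exact ⟨Sum.inr (), hX.symm⟩
  · rintro ⟨⟨i, hi⟩ | ⟨⟩, rfl⟩
    · exact Or.inl ⟨i, hi, (X_mul_eq k 0 i).symm⟩
    · exact Or.inr hX.symm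

theorem card_ge (a : ℕ) (ha : a ≤ n) :
    Fintype.card {s : Fin (n + 1) // a ≤ s.val} = n + 1 - a :=
  (Fintype.card_congr ⟨fun x : {s : Fin (n + 1) // a ≤ s.val} => (⟨x.1.val - a, by have := x.2; omega⟩ : Fin (n + 1 - a)),
    fun y => ⟨⟨y.val + a, by omega⟩, by simp only; omega⟩,
    fun x => Subtype.ext (Fin.ext (by have := x.2; simp only; omega)),
    fun y => Fin.ext (by simp)⟩).trans (Fintype.card_fin _)

variable {k}

theorem ne_zero_of_apply_eq {γ : Fin (n + 1) →₀ ℕ} {x : Fin (n + 1)} (h0 : γ 0 = 0) (hx : 0 < γ x) :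
    x.val ≠ 0 := fun e => by
  rw [show x = 0 from Fin.ext (by simpa using e), h0] at hx; omega

/-- Adding a variable outside of `x₁, …, x_m` does not put an exponent into `InI gM`. -/
theorem gM_add_out (hn : 1 ≤ n) {γ : Fin (n + 1) →₀ ℕ} {z : Fin (n + 1)} (hz1 : z ≠ one n) (hz : m < z.val)
    (h : ¬ InI (gM (n := n) (m := m) q) γ) : ¬ InI (gM (n := n) (m := m) q) (γ + e1 z) := fun hin => by
  obtain ⟨l, h1, h2, h3⟩ := (inI_gM _).mp hin
  have hzl : z ≠ l.1 := fun e => by have := congrArg Fin.val e; have := l.2.2; omega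
  rw [Finsupp.add_apply, e1_apply, if_neg hz1, add_zero] at h1 h2
  rw [Finsupp.add_apply, e1_apply, if_neg hzl, add_zero] at h3
  exact h ((inI_gM _).mpr ⟨l, h1, h2, h3⟩)

/-- Exponents of degree at most `q` are not in `InI gM`. -/
theorem gM_small {γ : Fin (n + 1) →₀ ℕ} (h : γ.degree ≤ q) : ¬ InI (gM (n := n) (m := m) q) γ := fun ⟨j, hj⟩ => by
  obtain ⟨r, hr⟩ := exists_add_of_le hj
  have := congrArg Finsupp.degree hr
  rw [map_add, gM, map_add, Finsupp.degree_single, Finsupp.degree_single] at this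
  omega

variable (k)

theorem finrank_M_plain (hn : 4 ≤ n) (hq : 1 ≤ q) (hm : 2 ≤ m) (hmn : m + 1 ≤ n)
    (hcase : m + 3 ≤ n ∨ 3 ≤ q) :
    Module.finrank k ↥(H0 k (G (gM (n := n) (m := m) q))) =
      n + n + (m + (Nat.choose (n + q - 1) (n - 1) - 1 + m * (n - m))) := by
  classical
  have hn1 : 1 ≤ n := by omega
  let p : L n := ⟨⟨n - 1, by omega⟩, by simp; omega⟩
  let p' : L n := ⟨⟨n - 2, by omega⟩, by simp; omega⟩
  have key : ∀ z : L n, (z = p ∨ z = p') → ∀ γ : Fin (n + 1) →₀ ℕ, γ.degree = 2 → γ 0 = 0 →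
      ¬ InI (G (gM (m := m) q)) γ → ¬ InI (G (gM (m := m) q)) (γ + e1 z.1) := by
    intro z hz γ hd h0 hγ
    have hzv : 2 ≤ z.1.val ∧ n - 2 ≤ z.1.val := by
      rcases hz with rfl | rfl <;> simp [p, p'] <;> omega
    have hz0 : z.1 ≠ 0 := fun e => by have := congrArg Fin.val e; simp only [Fin.val_zero] at this; omega
    refine notInI_of _ (by simp [e1_apply, h0, hz0]) ?_
    rcases hcase with h | h
    · exact gM_add_out hn1 (fun e => by have := congrArg Fin.val e; rw [one_val hn1] at this; omega) (by omega)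
        fun hh => hγ ((inI_iff _ _).mpr (Or.inr hh))
    · exact gM_small (by rw [map_add, hd, Finsupp.degree_single]; omega)
  rw [finrank_M k (by omega) hq hm hmn (fun _ => False) (fun s => 1 ≤ s.val) p (by simp [p]; omega)
    (fun _ h => h.elim) (fun _ h => h.elim) (fun _ h => h.elim)]
  · rw [card_ge 1 hn1, Fintype.card_eq_zero_iff.mpr ⟨fun x : {i : L n // False} => x.2⟩]
    omega
  · intro i γ hγ hd h0 _ _
    refine Or.inl ?_
    by_cases hi : i = p
    · exact ⟨p', fun e => by
        have := congrArg (fun x : L n => x.1.val) (e.trans hi); simp [p, p'] at this; omega, key p' (Or.inr rfl) γ hd h0 hγ⟩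
    · exact ⟨p, Ne.symm hi, key p (Or.inl rfl) γ hd h0 hγ⟩
  · intro i s hi hs hγ _
    refine ⟨Nat.pos_of_ne_zero hs, Or.inr (key p (Or.inl rfl) _ (by simp [Finsupp.degree_single]) ?_ hγ)⟩
    have q1 : i.1 ≠ 0 := fun e => hi (by simp [e])
    have q2 : s ≠ 0 := fun e => hs (by simp [e])
    simp [e1_apply, q1, q2]
  · intro s hs
    refine ⟨notInI_of _ ?_ ?_, by omega, fun h => h.1⟩
    · have q1 : p.1 ≠ 0 := fun e => by have := congrArg Fin.val e; simp [p] at this; omega
      have q2 : s ≠ 0 := fun e => by subst e; simp at hs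
      simp [e1_apply, q1, q2]
    · rcases hcase with h | h
      · intro hin
        obtain ⟨l, h1, h2, h3⟩ := (inI_gM _).mp hin
        have hpl : p.1 ≠ l.1 := fun e => by have := congrArg Fin.val e; simp [p] at this; have := l.2.2; omega
        have hp1 : p.1 ≠ one n := fun e => by have := congrArg Fin.val e; simp [p, one_val hn1] at this; omega
        rw [Finsupp.add_apply, e1_apply, if_neg hpl, zero_add, e1_apply] at h3
        rw [Finsupp.add_apply, e1_apply, if_neg hp1, zero_add, e1_apply] at h1 h2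
        split_ifs at h3 with hsl
        · by_cases hs1 : s = one n
          · have := h1 (hsl.symm.trans hs1); rw [if_pos hs1] at this; omega
          · rw [if_neg hs1] at h2; omega
        · omega
      · exact gM_small (by simp [Finsupp.degree_single]; omega)

theorem gs_zero (hn : 1 ≤ n) : gs n 0 = 0 := by
  have q1 : one n ≠ 0 := fun e => by have := congrArg Fin.val e; simp [one_val hn] at this
  have q2 : Fin.last n ≠ 0 := fun e => by
    have := congrArg Fin.val e; simp only [Fin.val_last, Fin.val_zero] at this; omega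
  simp [gs, e1_apply, q1, q2]

theorem gs_one (hn : 2 ≤ n) : gs n (one n) = 1 := by
  have q2 : Fin.last n ≠ one n := fun e => by
    have := congrArg Fin.val e; simp only [Fin.val_last, one_val (by omega : 1 ≤ n)] at this; omega
  simp [gs, e1_apply, q2]

theorem gs_notInI (hn : 2 ≤ n) (hmn : m + 1 ≤ n) : ¬ InI (G (gM (n := n) (m := m) 1)) (gs n) := by
  refine notInI_of _ (gs_zero (by omega)) fun hin => ?_
  obtain ⟨l, h1, -, h3⟩ := (inI_gM _).mp hin
  rw [gs_one hn] at h1
  have q1 : one n ≠ l.1 := fun e => by have := h1 e.symm; omega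
  have q2 : Fin.last n ≠ l.1 := fun e => by
    have := congrArg Fin.val e; have := l.2.2; simp only [Fin.val_last] at *; omega
  simp [gs, e1_apply, q1, q2] at h3

theorem inI_of_two (hn : 1 ≤ n) (hm : 1 ≤ m) {γ : Fin (n + 1) →₀ ℕ} (h : 2 ≤ γ (one n)) :
    InI (G (gM (n := n) (m := m) 1)) γ :=
  (inI_iff _ _).mpr (Or.inr ((inI_gM _).mpr
    ⟨⟨one n, by rw [one_val hn]; omega⟩, fun _ => by omega, by omega, by simp only; omega⟩))

theorem inI_of_one (hn : 1 ≤ n) {γ : Fin (n + 1) →₀ ℕ} (h : 1 ≤ γ (one n)) (l : M n m) (hl : l.1 ≠ one n)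
    (h' : 0 < γ l.1) : InI (G (gM (n := n) (m := m) 1)) γ :=
  (inI_iff _ _).mpr (Or.inr ((inI_gM _).mpr ⟨l, fun e => absurd e hl, h, h'⟩))

/-- With `q = 1`: an exponent of degree two avoiding `x₀` and involving `x₁` is `x₁ x_t` with `t > m`. -/
theorem q1_form (hn : 1 ≤ n) (hm : 1 ≤ m) {γ : Fin (n + 1) →₀ ℕ} (hγ : ¬ InI (G (gM (m := m) 1)) γ)
    (hd : γ.degree = 2) (h0 : γ 0 = 0) (h1 : 0 < γ (one n)) : ∃ t, γ = e1 (one n) + e1 t ∧ m < t.val := by
  obtain ⟨r, rfl, hr⟩ := exists_add_e1 (d := 1) hd h1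
  obtain ⟨t, rfl⟩ := exists_e1 hr
  refine ⟨t, rfl, ?_⟩
  by_contra hc
  have ht0 : t.val ≠ 0 := fun e => by
    rw [show t = 0 from Fin.ext (by simpa using e)] at h0
    simp [e1_apply] at h0
  by_cases ht1 : t = one n
  · subst ht1
    exact hγ (inI_of_two hn hm (by simp [e1_apply]))
  · exact hγ (inI_of_one hn (by simp [e1_apply]) ⟨t, by omega, by omega⟩ ht1 (by simp [e1_apply]))

theorem finrank_M_n21 (hn : 4 ≤ n) :
    Module.finrank k ↥(H0 k (G (gM (n := n) (m := n - 2) 1))) = 6 * n - 6 := by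
  classical
  have hn1 : 1 ≤ n := by omega
  let z : L n := ⟨⟨n - 1, by omega⟩, by simp; omega⟩
  let two : L n := ⟨⟨2, by omega⟩, by simp; omega⟩
  have hz1 : z.1 ≠ one n := fun e => by have := congrArg Fin.val e; simp [z, one_val hn1] at this; omega
  have hz0 : z.1 ≠ 0 := fun e => by have := congrArg Fin.val e; simp [z] at this; omega
  have hzm : n - 2 < z.1.val := by simp [z]; omega
  have hzN : Fin.last n ≠ z.1 := fun e => by
    have := congrArg Fin.val e; simp only [Fin.val_last, z] at this; omega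
  have ht1 : two.1 ≠ one n := fun e => by have := congrArg Fin.val e; simp [two, one_val hn1] at this
  have ht0 : two.1 ≠ 0 := fun e => by have := congrArg Fin.val e; simp [two] at this
  have keyz : ∀ γ : Fin (n + 1) →₀ ℕ, γ 0 = 0 → ¬ InI (G (gM (m := n - 2) 1)) γ →
      ¬ InI (G (gM (m := n - 2) 1)) (γ + e1 z.1) := fun γ h0 hγ =>
    notInI_of _ (by simp [e1_apply, h0, hz0]) (gM_add_out hn1 hz1 hzm fun hh => hγ ((inI_iff _ _).mpr (Or.inr hh)))
  have hgz : gs n z.1 = 0 := by simp [gs, e1_apply, Ne.symm hz1, hzN]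
  rw [finrank_M k (by omega) le_rfl (by omega) (by omega) (fun i => i = z) (fun s => 1 ≤ s.val) z (by simp [z]; omega)]
  · rw [card_ge 1 hn1, Fintype.card_subtype_eq, Nat.add_sub_cancel,
      Nat.choose_symm_of_eq_add (show n = (n - 1) + 1 by omega), Nat.choose_one_right,
      show n - (n - 2) = 2 by omega]
    omega
  · exact fun _ _ => gs_notInI (by omega) (by omega)
  · rintro i rfl i' hne
    by_cases h0 : i'.1.val = 0
    · refine (inI_iff _ _).mpr (Or.inl ⟨⟨one n, by rw [one_val hn1]; omega⟩, gL_le _ ?_ ?_ ?_⟩)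
      · rw [Finsupp.add_apply, e1_apply, if_pos (Fin.ext (by simpa using h0))]; omega
      · rw [Finsupp.add_apply]; have := gs_one (n := n) (by omega); simp only; omega
      · simp only [one_val hn1]; omega
    by_cases h1 : i'.1 = one n
    · refine inI_of_two hn1 (by omega) ?_
      rw [Finsupp.add_apply, e1_apply, if_pos h1, gs_one (by omega)]
    · have : i'.1.val ≤ n - 2 := by
        have := i'.2
        by_contra hc
        exact hne (Subtype.ext (Fin.ext (by simp [z]; omega)))
      exact inI_of_one hn1 (by rw [Finsupp.add_apply, gs_one (by omega)]; omega) ⟨i'.1, by omega, this⟩ h1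
        (by simp [e1_apply])
  · rintro i rfl j
    refine (inI_iff _ _).mpr (Or.inr ⟨j, fun x => ?_⟩)
    have hjz : j.1 ≠ z.1 := fun e => by have := congrArg Fin.val e; have := j.2.2; omega
    simp only [gM, gL, Finsupp.coe_tsub, Finsupp.coe_add, Pi.add_apply, Pi.sub_apply, e1_apply, Finsupp.single_apply]
    by_cases hxz : z.1 = x
    · subst hxz
      rw [if_neg (Ne.symm hz1), if_neg hjz]
      omega
    · rw [if_neg hxz]
      by_cases hx0 : (0 : Fin (n + 1)) = x
      · subst hx0
        have q1 : one n ≠ 0 := fun e => by have := congrArg Fin.val e; simp [one_val hn1] at this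
        have q2 : j.1 ≠ 0 := fun e => by
          have := congrArg Fin.val e; simp only [Fin.val_zero] at this; have := j.2.1; omega
        rw [if_neg q1, if_neg q2]; omega
      · rw [if_neg hx0]; omega
  · intro i γ hγ hd h0 hsp hk
    refine Or.inl ?_
    by_cases hi : i = z
    swap
    · exact ⟨z, Ne.symm hi, keyz γ h0 hγ⟩
    subst hi
    refine ⟨two, fun e => by have := congrArg (fun x : L n => x.1.val) e; simp [z, two] at this; omega, ?_⟩
    have h1 : γ (one n) = 0 := by
      by_contra hc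
      obtain ⟨t, rfl, ht⟩ := q1_form hn1 (by omega) hγ hd h0 (Nat.pos_of_ne_zero hc)
      have hzk : (e1 (one n) + e1 t) z.1 = 0 := hk.resolve_left (by simp [z]; omega)
      by_cases htz : t = z.1
      · subst htz; simp [e1_apply] at hzk
      refine hsp ⟨rfl, ?_⟩
      rw [gs, show t = Fin.last n from Fin.ext (by
        have := t.isLt; simp only [Fin.val_last]
        have : t.val ≠ n - 1 := fun e => htz (Fin.ext (by simp [z, e]))
        omega)]
    refine notInI_of _ (by simp [e1_apply, h0, ht0]) fun hin => ?_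
    obtain ⟨l, -, h2, -⟩ := (inI_gM _).mp hin
    rw [Finsupp.add_apply, e1_apply, if_neg ht1, h1] at h2
    omega
  · intro i s hi hs hγ _
    refine ⟨Nat.pos_of_ne_zero hs, Or.inr (keyz _ ?_ hγ)⟩
    have q1 : i.1 ≠ 0 := fun e => hi (by simp [e])
    have q2 : s ≠ 0 := fun e => hs (by simp [e])
    simp [e1_apply, q1, q2]
  · intro s hs
    have q2 : s ≠ 0 := fun e => by subst e; simp at hs
    refine ⟨notInI_of _ (by simp [e1_apply, hz0, q2]) ?_, by omega, fun h => ?_⟩
    · rw [add_comm (e1 z.1) (e1 s)]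
      exact gM_add_out hn1 hz1 hzm (gM_small (by simp [Finsupp.degree_single]))
    · have := DFunLike.congr_fun h.2 z.1
      rw [hgz, Finsupp.add_apply, e1_apply, if_pos rfl] at this
      omega

theorem finrank_M_n11 (hn : 3 ≤ n) :
    Module.finrank k ↥(H0 k (G (gM (n := n) (m := n - 1) 1))) = 6 * n - 4 := by
  classical
  have hn1 : 1 ≤ n := by omega
  let two : L n := ⟨⟨2, by omega⟩, by simp; omega⟩
  let o : L n := ⟨one n, by rw [one_val hn1]; omega⟩
  have ht1 : two.1 ≠ one n := fun e => by have := congrArg Fin.val e; simp [two, one_val hn1] at this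
  have ht0 : two.1 ≠ 0 := fun e => by have := congrArg Fin.val e; simp [two] at this
  have hone0 : one n ≠ 0 := fun e => by have := congrArg Fin.val e; simp [one_val hn1] at this
  have small : ∀ γ : Fin (n + 1) →₀ ℕ, γ 0 = 0 → γ (one n) = 0 → ¬ InI (G (gM (m := n - 1) 1)) γ :=
    fun γ h0 h1 => notInI_of _ h0 fun hin => by
      obtain ⟨l, -, h2, -⟩ := (inI_gM _).mp hin
      omega
  have form : ∀ γ : Fin (n + 1) →₀ ℕ, ¬ InI (G (gM (m := n - 1) 1)) γ → γ.degree = 2 → γ 0 = 0 → γ ≠ gs n →
      γ (one n) = 0 := fun γ hγ hd h0 hne => by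
    by_contra hc
    obtain ⟨t, rfl, ht⟩ := q1_form hn1 (by omega) hγ hd h0 (Nat.pos_of_ne_zero hc)
    exact hne (by rw [gs, show t = Fin.last n from Fin.ext (by have := t.isLt; simp only [Fin.val_last]; omega)])
  rw [finrank_M k (by omega) le_rfl (by omega) (by omega) (fun _ => True) (fun s => 2 ≤ s.val) two (by simp [two])]
  · have hL : Fintype.card {i : L n // True} = n :=
      (Fintype.card_congr ⟨fun x : {i : L n // True} => (⟨x.1.1.val, x.1.2⟩ : Fin n),
        fun y => ⟨⟨⟨y.val, by omega⟩, y.2⟩, trivial⟩, fun x => rfl, fun y => rfl⟩).trans (Fintype.card_fin n)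
    rw [card_ge 2 (by omega), hL, Nat.add_sub_cancel,
      Nat.choose_symm_of_eq_add (show n = (n - 1) + 1 by omega), Nat.choose_one_right,
      show n - (n - 1) = 1 by omega]
    omega
  · exact fun _ _ => gs_notInI (by omega) (by omega)
  · intro i _ i' hne
    by_cases h0 : i'.1.val = 0
    · refine (inI_iff _ _).mpr (Or.inl ⟨o, gL_le _ ?_ ?_ ?_⟩)
      · rw [Finsupp.add_apply, e1_apply, if_pos (Fin.ext (by simpa using h0))]; omega
      · rw [Finsupp.add_apply]; have := gs_one (n := n) (by omega); simp only [o]; omega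
      · simp only [o, one_val hn1]; omega
    by_cases h1 : i'.1 = one n
    · refine inI_of_two hn1 (by omega) ?_
      rw [Finsupp.add_apply, e1_apply, if_pos h1, gs_one (by omega)]
    · exact inI_of_one hn1 (by rw [Finsupp.add_apply, gs_one (by omega)]; omega)
        ⟨i'.1, by omega, by have := i'.2; omega⟩ h1 (by simp [e1_apply])
  · intro i _ j
    have q2 : j.1 ≠ 0 := fun e => by
      have := congrArg Fin.val e; simp only [Fin.val_zero] at this; have := j.2.1; omega
    by_cases hi1 : i.1 = one n ∧ j.1 ≠ one n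
    · obtain ⟨hi, hj⟩ := hi1
      refine inI_of_one hn1 (by rw [Finsupp.add_apply, gs_one (by omega)]; omega) j hj ?_
      simp only [gM, gL, Finsupp.coe_tsub, Finsupp.coe_add, Pi.add_apply, Pi.sub_apply, e1_apply,
        Finsupp.single_apply, hi, if_neg (Ne.symm hj), if_neg (Ne.symm q2)]
      simp
    · refine inI_of_two hn1 (by omega) ?_
      rw [Finsupp.add_apply, gs_one (by omega)]
      simp only [gM, gL, Finsupp.coe_tsub, Finsupp.coe_add, Pi.add_apply, Pi.sub_apply, e1_apply,
        Finsupp.single_apply, if_neg (Ne.symm hone0)]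
      by_cases hi : i.1 = one n
      · have : j.1 = one n := by by_contra h; exact hi1 ⟨hi, h⟩
        simp [hi, this]
      · simp [hi] <;> omega
  · intro i γ hγ hd h0 hsp hk
    have h1 : γ (one n) = 0 := form γ hγ hd h0 fun e => hsp ⟨trivial, e⟩
    by_cases hi0 : i.1.val = 0
    · exact Or.inl ⟨two, fun e => by rw [← e] at hi0; simp [two] at hi0,
        small _ (by simp [e1_apply, h0, ht0]) (by simp [e1_apply, h1, ht1])⟩
    by_cases hl : ∃ l : M n (n - 1), 0 < γ l.1
    · obtain ⟨l, hl⟩ := hl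
      have hl1 : l.1 ≠ one n := fun e => by rw [e] at hl; omega
      have hl0 : l.1 ≠ 0 := fun e => by rw [e] at hl; omega
      refine Or.inl ⟨⟨l.1, by have := l.2.2; omega⟩, fun e => ?_,
        small _ (by simp [e1_apply, h0, hl0]) (by simp [e1_apply, h1, hl1])⟩
      rcases hk with hk | hk
      · exact hi0 hk
      · rw [← e] at hk; simp only at hk; omega
    push Not at hl
    have hi00 : i.1 ≠ 0 := fun e => hi0 (by simp [e])
    refine Or.inr ?_
    by_cases hi1 : i.1 = one n
    · let j : M n (n - 1) := ⟨two.1, by simp [two]; omega⟩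
      refine ⟨j, small _ ?_ ?_⟩
      · simp [gM, gL, e1_apply, h0, hone0, j, ht0, hi00]
      · simp [gM, gL, e1_apply, h1, j, ht1, hi1, Ne.symm hone0]
    · let j : M n (n - 1) := ⟨i.1, by have := i.2; omega⟩
      refine ⟨j, notInI_of _ (by simp [gM, gL, e1_apply, h0, hone0, j, hi00]) fun hin => ?_⟩
      obtain ⟨l, a, -, c⟩ := (inI_gM _).mp hin
      by_cases hl1 : l.1 = one n
      · have h5 := a hl1
        simp [gM, gL, e1_apply, h1, j, hi1, Ne.symm hone0] at h5
      · have hl0 : (0 : Fin (n + 1)) ≠ l.1 := fun e => by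
          have := congrArg Fin.val e; simp only [Fin.val_zero] at this; have := l.2.1; omega
        have := hl l
        by_cases hil : i.1 = l.1
        · simp [gM, gL, e1_apply, j, ← hil, Ne.symm hi1, hi1, Ne.symm hi00] at c
          rw [← hil] at this
          omega
        · simp [gM, gL, e1_apply, j, hil, Ne.symm hl1, hl0] at c
          omega
  · intro i s hi hs hγ hsp
    have q1 : i.1 ≠ 0 := fun e => hi (by simp [e])
    have q2 : s ≠ 0 := fun e => hs (by simp [e])
    have h0 : (e1 i.1 + e1 s) 0 = 0 := by simp [e1_apply, q1, q2]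
    have h1 := form _ hγ (by simp [Finsupp.degree_single]) h0 fun e => hsp ⟨trivial, e⟩
    have h1' := h1
    simp only [Finsupp.add_apply, e1_apply] at h1'
    have hs1 : s ≠ one n := fun e => by rw [if_pos e] at h1'; omega
    refine ⟨by have : s.val ≠ 1 := fun e => hs1 (Fin.ext (by rw [one_val hn1]; exact e))
               omega, Or.inr (small _ ?_ ?_)⟩
    · rw [Finsupp.add_apply, h0, e1_apply, if_neg ht0]
    · rw [Finsupp.add_apply, h1, e1_apply, if_neg ht1]
  · intro s hs
    have q2 : s ≠ 0 := fun e => by subst e; simp at hs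
    have q3 : s ≠ one n := fun e => by subst e; rw [one_val hn1] at hs; omega
    refine ⟨small _ (by simp [e1_apply, ht0, q2]) (by simp [e1_apply, ht1, q3]), by omega, fun h => ?_⟩
    have := DFunLike.congr_fun h.2 (one n)
    rw [gs_one (by omega)] at this
    simp [e1_apply, ht1, q3] at this

theorem finrank_P_case (hn : 3 ≤ n) (hq : 2 ≤ q) (hcase : 4 ≤ n ∨ 4 ≤ q) :
    Module.finrank k ↥(H0 k (G (gP n q))) = 2 * n - 1 + Nat.choose (n + q - 1) (n - 1) := by
  classical
  have hn1 : 1 ≤ n := by omega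
  let p : L n := ⟨⟨2, by omega⟩, by simp; omega⟩
  have hp0 : p.1 ≠ 0 := fun e => by have := congrArg Fin.val e; simp [p] at this
  have hp1 : p.1 ≠ one n := fun e => by have := congrArg Fin.val e; simp [p, one_val hn1] at this
  obtain ⟨p', hne, hp'0, hp'⟩ : ∃ p' : L n, p' ≠ p ∧ p'.1 ≠ 0 ∧ (p'.1 = one n → 4 ≤ q) := by
    rcases hcase with h | h
    · exact ⟨⟨⟨3, by omega⟩, by simp; omega⟩, fun e => by
        have := congrArg (fun x : L n => x.1.val) e; simp [p] at this,
        fun e => by have := congrArg Fin.val e; simp at this,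
        fun e => by have := congrArg Fin.val e; simp [one_val hn1] at this⟩
    · exact ⟨⟨one n, by rw [one_val hn1]; omega⟩, fun e => hp1 (congrArg Subtype.val e).symm,
        fun e => by have := congrArg Fin.val e; simp [one_val hn1] at this, fun _ => h⟩
  have key : ∀ z : L n, z.1 ≠ 0 → (z.1 = one n → 4 ≤ q) → ∀ γ : Fin (n + 1) →₀ ℕ, γ.degree = 2 → γ 0 = 0 →
      ¬ InI (G (gP n q)) γ → ¬ InI (G (gP n q)) (γ + e1 z.1) := by
    intro z hz0 hz γ hd h0 hγ
    refine notInI_of _ (by simp [e1_apply, h0, hz0]) fun hin => ?_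
    rw [inI_gP, Finsupp.add_apply, e1_apply] at hin
    split_ifs at hin with hz1
    · have hq4 := hz hz1
      have : γ (one n) ≤ γ.degree := by
        rw [Finsupp.degree_eq_sum]; exact Finset.single_le_sum (fun y _ => Nat.zero_le _) (Finset.mem_univ _)
      omega
    · exact hγ ((inI_iff _ _).mpr (Or.inr ((inI_gP _).mpr (by omega))))
  rw [finrank_P k hn hq (fun s => 1 ≤ s.val) p (by simp [p])]
  · rw [card_ge 1 hn1]
    have : 2 ≤ Nat.choose (n + q - 1) (n - 1) := by
      have h1 := Nat.choose_le_choose (n - 1) (show n ≤ n + q - 1 by omega)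
      have h2 : Nat.choose n (n - 1) = n := by
        rw [Nat.choose_symm_of_eq_add (show n = (n - 1) + 1 by omega), Nat.choose_one_right]
      omega
    omega
  · intro i γ hγ hd h0 _
    refine Or.inl ?_
    by_cases hi : i = p
    · exact ⟨p', hi ▸ hne, key p' hp'0 hp' γ hd h0 hγ⟩
    · exact ⟨p, Ne.symm hi, key p hp0 (fun e => absurd e hp1) γ hd h0 hγ⟩
  · intro i s hi hs hγ
    have q1 : i.1 ≠ 0 := fun e => hi (by simp [e])
    have q2 : s ≠ 0 := fun e => hs (by simp [e])
    exact ⟨Nat.pos_of_ne_zero hs, Or.inr (key p hp0 (fun e => absurd e hp1) _ (by simp [Finsupp.degree_single])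
      (by simp [e1_apply, q1, q2]) hγ)⟩
  · intro s hs
    have q2 : s ≠ 0 := fun e => by subst e; simp at hs
    refine ⟨notInI_of _ (by simp [e1_apply, hp0, q2]) fun hin => ?_, by omega⟩
    rw [inI_gP, Finsupp.add_apply, e1_apply, if_neg hp1, e1_apply] at hin
    split_ifs at hin <;> omega

end Groth.Agent.Lib.HilbHom62.Borel
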