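import Groth.Agent.Lib.HilbHom62.BorelR

/-!
# The family with one further generator `x₁^q`
-/

set_option autoImplicit false
set_option linter.unusedSectionVars false

noncomputable section

open W4c1hilbpn

namespace Groth.Agent.Lib.HilbHom62.Borel

universe u

variable {n q : ℕ}

/-- The generator `x₁^q`. -/
def gP (n q : ℕ) : Unit → Fin (n + 1) →₀ ℕ := fun _ => Finsupp.single (one n) q

theorem inI_gP (γ : Fin (n + 1) →₀ ℕ) : InI (gP n q) γ ↔ q ≤ γ (one n) := by
  constructor
  · intro hin
    obtain ⟨i, hi⟩ := hin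
    exact Finsupp.single_le_iff.mp hi
  · intro h
    exact ⟨(), Finsupp.single_le_iff.mpr h⟩

theorem single_N_mem_HP (hn : 2 ≤ n) (hq : 1 ≤ q) : Finsupp.single (Fin.last n) q ∈ HP n q := by
  refine mem_HP.mpr ⟨Finsupp.degree_single _ _, ?_, fun e => ?_⟩
  · rw [Finsupp.single_apply, if_neg (fun e => by
      have := congrArg Fin.val e; simp only [Fin.val_last, Fin.val_zero] at this; omega)]
  · have h := DFunLike.congr_fun e (Fin.last n)
    have hne : one n ≠ Fin.last n := fun e => by
      have := congrArg Fin.val e; simp only [one_val (by omega : 1 ≤ n), Fin.val_last] at this; omega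
    rw [Finsupp.single_apply, Finsupp.single_apply, if_pos rfl, if_neg hne] at h
    omega

/-- The parameters on the generator `x₁^q`. -/
abbrev FP (n q : ℕ) := Unit ⊕ ↥((HP n q).erase (Finsupp.single (Fin.last n) q))

open Classical in
/-- The classes on the generator `x₁^q`. -/
def clsP (q : ℕ) (_ : Unit) (γ : Fin (n + 1) →₀ ℕ) : Option (FP n q) :=
  if InI (G (gP n q)) γ ∨ γ.degree ≠ q then none
  else if 0 < γ 0 then some (.inl ())
  else if h : γ ∈ (HP n q).erase (Finsupp.single (Fin.last n) q) then some (.inr ⟨γ, h⟩)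
  else none

theorem clsP_cases {j : Unit} {γ : Fin (n + 1) →₀ ℕ} {f : FP n q} (h : clsP q j γ = some f) :
    (¬ InI (G (gP n q)) γ ∧ γ.degree = q) ∧
      (0 < γ 0 ∨ γ ∈ (HP n q).erase (Finsupp.single (Fin.last n) q)) := by
  unfold clsP at h
  split_ifs at h with h1 h2 h3
  all_goals push Not at h1
  · exact ⟨h1, Or.inl h2⟩
  · exact ⟨h1, Or.inr h3⟩

variable (k : Type u) [Field k]

theorem finrank_P (hn : 3 ≤ n) (hq : 2 ≤ q)
    (Ls : Fin (n + 1) → Prop) [Fintype {s : Fin (n + 1) // Ls s}]
    (p : L n) (hp0 : p.1.val ≠ 0)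
    (S3 : ∀ (i : L n) γ, ¬ InI (G (gP n q)) γ → γ.degree = 2 → γ 0 = 0 →
      (i.1.val = 0 ∨ γ i.1 = 0) →
      (∃ i' : L n, i' ≠ i ∧ ¬ InI (G (gP n q)) (γ + e1 i'.1)) ∨
        ∃ j, ¬ InI (G (gP n q)) (γ + (gP n q j - gL i)))
    (S4 : ∀ (i : L n) (s : Fin (n + 1)), i.1.val ≠ 0 → s.val ≠ 0 → ¬ InI (G (gP n q)) (e1 i.1 + e1 s) →
      Ls s ∧ (i = p ∨ ¬ InI (G (gP n q)) (e1 i.1 + e1 s + e1 p.1)))
    (S4' : ∀ s, Ls s → ¬ InI (G (gP n q)) (e1 p.1 + e1 s) ∧ s.val ≠ 0) :
    Module.finrank k ↥(H0 k (G (gP n q))) =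
      n + Fintype.card {s : Fin (n + 1) // Ls s} + (1 + (Nat.choose (n + q - 1) (n - 1) - 1 - 1)) := by
  classical
  have hn1 : 1 ≤ n := by omega
  have one0 : one n ≠ 0 := fun e => by have := congrArg Fin.val e; simp [one_val hn1] at this
  have oneN : one n ≠ Fin.last n := fun e => by
    have := congrArg Fin.val e; simp only [one_val hn1, Fin.val_last] at this; omega
  have hN0 : Fin.last n ≠ 0 := fun e => by
    have := congrArg Fin.val e; simp only [Fin.val_last, Fin.val_zero] at this; omega
  have hb : ¬ InI (G (gP n q)) (e1 0 + Finsupp.single (Fin.last n) (q - 1)) := fun hin => by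
    rcases (inI_iff _ _).mp hin with ⟨i, hi⟩ | hin
    · have h1 := hi i.1
      have h2 := hi 0
      have q1 : Fin.last n ≠ i.1 := fun e => by
        have h' := congrArg Fin.val e; have := i.2; simp only [Fin.val_last] at h'; omega
      by_cases h0 : (0 : Fin (n + 1)) = i.1
      · simp [gL, e1_apply, hN0, ← h0] at h2
      · simp [gL, e1_apply, h0, q1] at h1
    · have h1 := (inI_gP _).mp hin
      simp [e1_apply, Ne.symm one0, Ne.symm oneN] at h1
      omega
  refine (finrank (gR := gP n q) (Sp := fun _ => False) k (by omega) (fun _ => by simp [gP, one0])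
    (fun _ => by simp [gP, oneN]) (fun _ => by simp [gP, Finsupp.degree_single]; omega) p hp0
    (fun _ h => h.elim) (fun _ h => h.elim) (fun _ h => h.elim)
    (fun i γ a b c _ d => S3 i γ a b c d) (fun i s a b c _ => S4 i s a b c)
    (fun s hs => ⟨(S4' s hs).1, (S4' s hs).2, fun h => h.1⟩)
    (clsP (n := n) q) ?_ ?_ ?_ (fun _ => ())
    (fun f => f.elim (fun _ => e1 0 + Finsupp.single (Fin.last n) (q - 1)) fun μ => μ.1) ?_ ?_).trans ?_
  · intro j γ f h
    exact ⟨(clsP_cases h).1.1, (clsP_cases h).1.2.trans (by simp [gP, Finsupp.degree_single])⟩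
  · rintro ⟨⟩ ⟨⟩ δ f _ h
    exact h
  · intro j γ f h he
    obtain ⟨⟨-, hd⟩, hh⟩ := clsP_cases h
    rw [hd] at he
    rcases hh with h0 | h0
    · rw [he, Finsupp.single_apply, if_neg hN0] at h0; omega
    · exact Finset.ne_of_mem_erase h0 he
  · rintro (⟨⟩ | μ)
    · show clsP q () (e1 0 + Finsupp.single (Fin.last n) (q - 1)) = _
      rw [clsP, if_neg (by push Not; exact ⟨hb, by rw [map_add, Finsupp.degree_single, Finsupp.degree_single]; omega⟩),
        if_pos (by simp [e1_apply])]
    · obtain ⟨h1, h2, -⟩ := mem_HP.mp (Finset.mem_of_mem_erase μ.2)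
      show clsP q () μ.1 = _
      rw [clsP, if_neg, if_neg (show ¬ 0 < (μ.1 0) by omega), dif_pos μ.2]
      · push Not
        refine ⟨notInI_of _ h2 fun hin => ?_, h1⟩
        have := (inI_gP _).mp hin
        have := HP_lt (Finset.mem_of_mem_erase μ.2)
        omega
  · rintro v hv ⟨⟩ γ hγ hdeg
    replace hdeg : γ.degree = q := hdeg.trans (by simp [gP, Finsupp.degree_single])
    rcases Nat.eq_zero_or_pos (γ 0) with h0 | h0
    swap
    · rw [show clsP q () γ = some (.inl ()) by rw [clsP, if_neg (by push Not; exact ⟨hγ, hdeg⟩), if_pos h0]]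
      show v _ γ = v _ _
      rw [form0 hn1 (d := q - 1) (fun hh => hγ ((inI_iff _ γ).mpr (Or.inl hh))) h0 (by omega)]
      rfl
    by_cases hN : γ = Finsupp.single (Fin.last n) q
    · subst hN
      rw [show clsP q () (Finsupp.single (Fin.last n) q) = (none : Option (FP n q)) by
        rw [clsP, if_neg (by push Not; exact ⟨hγ, hdeg⟩), if_neg (by omega),
          dif_neg (fun h => Finset.ne_of_mem_erase h rfl)]]
      show v _ _ = 0
      let o : L n := ⟨one n, by rw [one_val hn1]; omega⟩
      have hm : gL o - gP n q () = e1 0 := by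
        refine Finsupp.ext fun x => ?_
        simp only [gL, gP, o, Finsupp.coe_tsub, Pi.sub_apply, Finsupp.add_apply, e1_apply, Finsupp.single_apply]
        by_cases hx : one n = x
        · subst hx; simp only [↓reduceIte, if_neg one0.symm] <;> omega
        · simp only [if_neg hx]; omega
      have hm' : gP n q () - gL o = Finsupp.single (one n) (q - 1) := by
        refine Finsupp.ext fun x => ?_
        simp only [gL, gP, o, Finsupp.coe_tsub, Pi.sub_apply, Finsupp.add_apply, e1_apply, Finsupp.single_apply]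
        by_cases hx : one n = x
        · subst hx; simp only [↓reduceIte, if_neg one0.symm] <;> omega
        · simp only [if_neg hx]; omega
      have hδ : ¬ InI (G (gP n q)) (Finsupp.single (Fin.last n) q + e1 0) := fun hin => by
        rcases (inI_iff _ _).mp hin with ⟨i, hi⟩ | hin
        · have h1 := hi i.1
          have h2 := hi 0
          have q1 : Fin.last n ≠ i.1 := fun e => by
            have h' := congrArg Fin.val e; have := i.2; simp only [Fin.val_last] at h'; omega
          by_cases h0' : (0 : Fin (n + 1)) = i.1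
          · simp [gL, e1_apply, hN0, ← h0'] at h2
          · simp [gL, e1_apply, h0', q1] at h1
        · have h1 := (inI_gP _).mp hin
          simp [e1_apply, Ne.symm one0, Ne.symm oneN] at h1
          omega
      have h2 := hv.2 (Sum.inr ()) (Sum.inl o) _ hδ
      simp only [ev, Sum.elim_inl, Sum.elim_inr, hm, hm'] at h2
      rw [if_pos le_add_self, if_neg, add_tsub_cancel_right] at h2
      · exact h2
      · intro hle
        have := hle (one n)
        simp [e1_apply, Ne.symm one0, Ne.symm oneN] at this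
        omega
    have hμ : γ ∈ (HP n q).erase (Finsupp.single (Fin.last n) q) :=
      Finset.mem_erase.mpr ⟨hN, mem_HP.mpr ⟨hdeg, h0, fun e => hγ ((inI_iff _ γ).mpr (Or.inr ((inI_gP γ).mpr
        (by rw [e]; simp))))⟩⟩
    rw [show clsP q () γ = some (.inr ⟨γ, hμ⟩) by
      rw [clsP, if_neg (by push Not; exact ⟨hγ, hdeg⟩), if_neg (by omega), dif_pos hμ]]
    rfl
  · have hL : Fintype.card (L n) = n :=
      (Fintype.card_congr ⟨fun x : L n => (⟨x.1.val, x.2⟩ : Fin n),
        fun y => ⟨⟨y.val, by omega⟩, y.2⟩, fun x => rfl, fun y => rfl⟩).trans (Fintype.card_fin n)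
    have he : Fintype.card {i : L n // False} = 0 := Fintype.card_eq_zero_iff.mpr ⟨fun x => x.2⟩
    simp only [Fintype.card_sum, Fintype.card_unit, Fintype.card_coe, hL, he, zero_add,
      Finset.card_erase_of_mem (single_N_mem_HP (by omega : 2 ≤ n) (by omega : 1 ≤ q)), card_HP hn1]

end Groth.Agent.Lib.HilbHom62.Borel
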