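import Groth.Agent.Lib.HilbHom62.Borel

/-!
# The two families of further generators
-/

set_option autoImplicit false
set_option linter.unusedSectionVars false

noncomputable section

open W4c1hilbpn

namespace Groth.Agent.Lib.HilbHom62.Borel

universe u

variable {n q m : ℕ}

/-- Monomials of degree `q` in `x₁, …, x_n` other than `x₁^q`. -/
def HP (n q : ℕ) : Finset (Fin (n + 1) →₀ ℕ) :=
  (((Finset.univ : Finset (Fin (n + 1))).erase 0).finsuppAntidiag q).erase (Finsupp.single (one n) q)

theorem mem_HP {μ : Fin (n + 1) →₀ ℕ} :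
    μ ∈ HP n q ↔ μ.degree = q ∧ μ 0 = 0 ∧ μ ≠ Finsupp.single (one n) q := by
  classical
  rw [HP, Finset.mem_erase, Finset.mem_finsuppAntidiag]
  constructor
  · rintro ⟨h1, h2, h3⟩
    have h0 : μ 0 = 0 := by
      by_contra hne
      simpa using h3 (Finsupp.mem_support_iff.mpr hne)
    refine ⟨?_, h0, h1⟩
    rw [Finsupp.degree_eq_sum, ← Finset.add_sum_erase _ _ (Finset.mem_univ (0 : Fin (n + 1))), h0, zero_add]
    exact h2
  · rintro ⟨h1, h2, h3⟩
    refine ⟨h3, ?_, fun x hx => Finset.mem_erase.mpr ⟨fun e => ?_, Finset.mem_univ x⟩⟩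
    · rw [Finsupp.degree_eq_sum, ← Finset.add_sum_erase _ _ (Finset.mem_univ (0 : Fin (n + 1))), h2,
        zero_add] at h1
      exact h1
    · subst e; exact (Finsupp.mem_support_iff.mp hx) h2

theorem card_HP (hn : 1 ≤ n) : (HP n q).card = Nat.choose (n + q - 1) (n - 1) - 1 := by
  classical
  rw [HP, Finset.card_erase_of_mem, Finset.card_finsuppAntidiag_nat_eq_choose,
    Finset.card_erase_of_mem (Finset.mem_univ _), Finset.card_univ, Fintype.card_fin, Nat.add_sub_cancel]
  · congr 1
    exact Nat.choose_symm_of_eq_add (by omega)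
  · rw [Finset.mem_finsuppAntidiag]
    refine ⟨?_, fun x hx => Finset.mem_erase.mpr ⟨?_, Finset.mem_univ x⟩⟩
    · rw [Finset.sum_eq_single (one n)]
      · simp
      · intro b _ hb; simp [Finsupp.single_apply, Ne.symm hb]
      · intro h
        exact absurd (Finset.mem_erase.mpr ⟨fun e => by
          have := congrArg Fin.val e; simp [one_val hn] at this, Finset.mem_univ _⟩) h
    · intro e
      have := Finsupp.support_single_subset hx
      simp only [Finset.mem_singleton] at this
      have h := congrArg Fin.val (e.symm.trans this)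
      simp [one_val hn] at h

theorem HP_lt {μ : Fin (n + 1) →₀ ℕ} (h : μ ∈ HP n q) : μ (one n) < q := by
  obtain ⟨h1, -, h3⟩ := mem_HP.mp h
  by_contra hc
  have hle : Finsupp.single (one n) q ≤ μ := by rw [Finsupp.single_le_iff]; omega
  obtain ⟨r, hr⟩ := exists_add_of_le hle
  have hd := congrArg Finsupp.degree hr
  rw [map_add, h1, Finsupp.degree_single] at hd
  exact h3 (by rw [hr, (Finsupp.degree_eq_zero_iff r).mp (by omega), add_zero])

section Mon

/-- The indices of the generators `x₁^q x_j`. -/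
abbrev M (n m : ℕ) := {j : Fin (n + 1) // 1 ≤ j.val ∧ j.val ≤ m}

/-- The generators `x₁^q x_j`. -/
def gM (q : ℕ) (j : M n m) : Fin (n + 1) →₀ ℕ := Finsupp.single (one n) q + e1 j.1

theorem inI_gM (γ : Fin (n + 1) →₀ ℕ) :
    InI (gM (n := n) (m := m) q) γ ↔
      ∃ j : M n m, (j.1 = one n → q < γ (one n)) ∧ q ≤ γ (one n) ∧ 0 < γ j.1 := by
  constructor
  · rintro ⟨j, h⟩
    have h1 := h (one n)
    have h2 := h j.1
    simp only [gM, Finsupp.add_apply, e1_apply, Finsupp.single_apply, ↓reduceIte] at h1 h2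
    refine ⟨j, fun e => ?_, ?_, ?_⟩
    · rw [if_pos e] at h1; omega
    · omega
    · omega
  · rintro ⟨j, h1, h2, h3⟩
    refine ⟨j, fun x => ?_⟩
    simp only [gM, Finsupp.add_apply, e1_apply, Finsupp.single_apply]
    split_ifs with a b b
    · subst a; have := h1 b; omega
    · subst a; omega
    · subst b; omega
    · omega

theorem gM_sub {j j' : M n m} (h : j ≠ j') : gM q j' - gM q j = e1 j'.1 := by
  refine Finsupp.ext fun x => ?_
  have : j.1 ≠ j'.1 := fun e => h (Subtype.ext e)
  simp only [gM, Finsupp.coe_tsub, Pi.sub_apply, Finsupp.add_apply, e1_apply, Finsupp.single_apply]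
  by_cases hx : one n = x
  · simp only [if_pos hx]
    split_ifs with a b b
    all_goals first | omega | exact absurd (b.trans a.symm) this
  · simp only [if_neg hx]
    split_ifs with a b b
    all_goals first | omega | exact absurd (b.trans a.symm) this

/-- The parameters on the generators `x₁^q x_j`. -/
abbrev FM (n q m : ℕ) := M n m ⊕ (↥(HP n q) ⊕ M n m × {t : Fin (n + 1) // m < t.val})

open Classical in
/-- The classes on the generators `x₁^q x_j`. -/
def clsM (q : ℕ) (j : M n m) (γ : Fin (n + 1) →₀ ℕ) : Option (FM n q m) :=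
  if InI (G (gM (m := m) q)) γ ∨ γ.degree ≠ q + 1 then none
  else if 0 < γ 0 then some (.inl j)
  else if h : ∃ t : {t : Fin (n + 1) // m < t.val}, γ = Finsupp.single (one n) q + e1 t.1 then
    some (.inr (.inr (j, h.choose)))
  else if h : ∃ μ : ↥(HP n q), γ = μ.1 + e1 j.1 then some (.inr (.inl h.choose))
  else none

theorem clsM_cases {j : M n m} {γ : Fin (n + 1) →₀ ℕ} {f : FM n q m} (h : clsM q j γ = some f) :
    (¬ InI (G (gM (m := m) q)) γ ∧ γ.degree = q + 1) ∧ ((f = .inl j ∧ 0 < γ 0) ∨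
      (∃ t : {t : Fin (n + 1) // m < t.val}, f = .inr (.inr (j, t)) ∧ γ = Finsupp.single (one n) q + e1 t.1) ∨
      ∃ μ : ↥(HP n q), f = .inr (.inl μ) ∧ γ = μ.1 + e1 j.1 ∧
        ¬ ∃ t : {t : Fin (n + 1) // m < t.val}, γ = Finsupp.single (one n) q + e1 t.1) := by
  unfold clsM at h
  split_ifs at h with h1 h2 h3 h4
  all_goals push Not at h1
  · exact ⟨h1, Or.inl ⟨(Option.some.inj h).symm, h2⟩⟩
  · exact ⟨h1, Or.inr (Or.inl ⟨h3.choose, (Option.some.inj h).symm, h3.choose_spec⟩)⟩
  · exact ⟨h1, Or.inr (Or.inr ⟨h4.choose, (Option.some.inj h).symm, h4.choose_spec, h3⟩)⟩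

theorem clsM_b {j : M n m} {γ : Fin (n + 1) →₀ ℕ} (h : ¬ InI (G (gM (m := m) q)) γ)
    (hd : γ.degree = q + 1) (h0 : 0 < γ 0) : clsM q j γ = some (.inl j) := by
  rw [clsM, if_neg (by push Not; exact ⟨h, hd⟩), if_pos h0]

theorem clsM_c {j : M n m} (t : {t : Fin (n + 1) // m < t.val}) (hn : 1 ≤ n)
    (h : ¬ InI (G (gM (m := m) q)) (Finsupp.single (one n) q + e1 t.1)) :
    clsM q j (Finsupp.single (one n) q + e1 t.1) = some (.inr (.inr (j, t))) := by
  have h0 : (Finsupp.single (one n) q + e1 t.1) 0 = 0 := by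
    have q1 : one n ≠ 0 := fun e => by have := congrArg Fin.val e; simp [one_val hn] at this
    have q2 : t.1 ≠ 0 := fun e => by
      have h1 := congrArg Fin.val e; have h2 := t.2; simp only [Fin.val_zero] at h1; omega
    simp [e1_apply, q1, q2]
  have hex : ∃ t' : {t : Fin (n + 1) // m < t.val},
      Finsupp.single (one n) q + e1 t.1 = Finsupp.single (one n) q + e1 t'.1 := ⟨t, rfl⟩
  rw [clsM, if_neg (by push Not; exact ⟨h, by simp [Finsupp.degree_single]⟩), if_neg (by omega), dif_pos hex]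
  have := TwoPlanes.e1_inj (add_left_cancel hex.choose_spec)
  exact congrArg some (congrArg Sum.inr (congrArg Sum.inr (Prod.ext rfl (Subtype.ext this.symm))))

theorem clsM_h {j : M n m} (μ : ↥(HP n q)) (h : ¬ InI (G (gM (m := m) q)) (μ.1 + e1 j.1))
    (hc : ¬ ∃ t : {t : Fin (n + 1) // m < t.val}, μ.1 + e1 j.1 = Finsupp.single (one n) q + e1 t.1) :
    clsM q j (μ.1 + e1 j.1) = some (.inr (.inl μ)) := by
  obtain ⟨h1, h2, -⟩ := mem_HP.mp μ.2
  have h0 : (μ.1 + e1 j.1) 0 = 0 := by
    have q2 : j.1 ≠ 0 := fun e => by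
      have h3 := congrArg Fin.val e; have h4 := j.2.1; simp only [Fin.val_zero] at h3; omega
    simp [e1_apply, q2, h2]
  have hex : ∃ μ' : ↥(HP n q), μ.1 + e1 j.1 = μ'.1 + e1 j.1 := ⟨μ, rfl⟩
  rw [clsM, if_neg (by push Not; exact ⟨h, by rw [map_add, h1, Finsupp.degree_single]⟩), if_neg (by omega),
    dif_neg hc, dif_pos hex]
  exact congrArg some (congrArg Sum.inr (congrArg Sum.inl (Subtype.ext (add_right_cancel hex.choose_spec).symm)))

theorem notInI0 (hn : 1 ≤ n) (hmn : m + 1 ≤ n) : ¬ InI (G (gM (m := m) q)) (e1 0 + Finsupp.single (Fin.last n) q) := by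
  intro hin
  rcases (inI_iff _ _).mp hin with ⟨i, hi⟩ | ⟨l, hl⟩
  · have h1 := hi i.1
    have h2 := hi 0
    have q1 : Fin.last n ≠ i.1 := fun e => by
      have h' := congrArg Fin.val e; have := i.2; simp only [Fin.val_zero, Fin.val_last] at h'; omega
    have q2 : Fin.last n ≠ 0 := fun e => by have h' := congrArg Fin.val e; simp only [Fin.val_zero, Fin.val_last] at h'; omega
    by_cases h0 : (0 : Fin (n + 1)) = i.1
    · simp [gL, e1_apply, q2, ← h0] at h2
    · simp [gL, e1_apply, h0, q1] at h1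
  · have h1 := hl l.1
    have q3 : (0 : Fin (n + 1)) ≠ l.1 := fun e => by
      have h' := congrArg Fin.val e; have := l.2.1; simp only [Fin.val_zero] at h'; omega
    have q4 : Fin.last n ≠ l.1 := fun e => by
      have h' := congrArg Fin.val e; have := l.2.2; simp only [Fin.val_last] at h'; omega
    simp [gM, e1_apply, q3, q4] at h1

variable (k : Type u) [Field k]

theorem finrank_M (hn : 3 ≤ n) (hq : 1 ≤ q) (hm : 2 ≤ m) (hmn : m + 1 ≤ n)
    (Sp : L n → Prop) (Ls : Fin (n + 1) → Prop) [Fintype {i : L n // Sp i}]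
    [Fintype {s : Fin (n + 1) // Ls s}]
    (p : L n) (hp : p.1.val ≠ 0)
    (S1 : ∀ i, Sp i → ¬ InI (G (gM (m := m) q)) (gs n))
    (S1' : ∀ i, Sp i → ∀ i' : L n, i' ≠ i → InI (G (gM (m := m) q)) (gs n + e1 i'.1))
    (S1c : ∀ i, Sp i → ∀ j : M n m, InI (G (gM (m := m) q)) (gs n + (gM q j - gL i)))
    (S3 : ∀ (i : L n) γ, ¬ InI (G (gM (m := m) q)) γ → γ.degree = 2 → γ 0 = 0 → ¬ (Sp i ∧ γ = gs n) →
      (i.1.val = 0 ∨ γ i.1 = 0) →
      (∃ i' : L n, i' ≠ i ∧ ¬ InI (G (gM (m := m) q)) (γ + e1 i'.1)) ∨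
        ∃ j : M n m, ¬ InI (G (gM (m := m) q)) (γ + (gM q j - gL i)))
    (S4 : ∀ (i : L n) (s : Fin (n + 1)), i.1.val ≠ 0 → s.val ≠ 0 → ¬ InI (G (gM (m := m) q)) (e1 i.1 + e1 s) →
      ¬ (Sp i ∧ e1 i.1 + e1 s = gs n) → Ls s ∧ (i = p ∨ ¬ InI (G (gM (m := m) q)) (e1 i.1 + e1 s + e1 p.1)))
    (S4' : ∀ s, Ls s → ¬ InI (G (gM (m := m) q)) (e1 p.1 + e1 s) ∧ s.val ≠ 0 ∧ ¬ (Sp p ∧ e1 p.1 + e1 s = gs n)) :
    Module.finrank k ↥(H0 k (G (gM (n := n) (m := m) q))) =
      n + (Fintype.card {i : L n // Sp i} + Fintype.card {s : Fin (n + 1) // Ls s}) +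
        (m + (Nat.choose (n + q - 1) (n - 1) - 1 + m * (n - m))) := by
  classical
  have hn1 : 1 ≤ n := by omega
  have one0 : one n ≠ 0 := fun e => by have := congrArg Fin.val e; simp [one_val hn1] at this
  have oneN : one n ≠ Fin.last n := fun e => by have := congrArg Fin.val e; simp [one_val hn1] at this; omega
  have hM0 : ∀ j : M n m, j.1 ≠ 0 := fun j e => by have := congrArg Fin.val e; simp only [Fin.val_zero, Fin.val_last] at this; have := j.2.1; omega
  have hMN : ∀ j : M n m, j.1 ≠ Fin.last n := fun j e => by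
    have := congrArg Fin.val e; simp only [Fin.val_zero, Fin.val_last] at this; have := j.2.2; omega
  let j0 : M n m := ⟨⟨2, by omega⟩, by simp; omega⟩
  have hj01 : j0.1 ≠ one n := fun e => by have := congrArg Fin.val e; simp [one_val hn1, j0] at this
  have hR : ∀ γ : Fin (n + 1) →₀ ℕ, γ (one n) < q → ¬ InI (gM (n := n) (m := m) q) γ := fun γ h hin => by
    obtain ⟨j, -, h2, -⟩ := (inI_gM γ).mp hin; omega
  refine (finrank (gR := gM (m := m) q) k (by omega)
    (fun j => by simp only [gM, Finsupp.add_apply, e1_apply, Finsupp.single_apply]; rw [if_neg one0, if_neg (hM0 j)]; rfl)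
    (fun j => by simp only [gM, Finsupp.add_apply, e1_apply, Finsupp.single_apply]; rw [if_neg oneN, if_neg (hMN j)]; rfl)
    (fun j => by simp [gM, Finsupp.degree_single]; omega) p hp S1 S1' S1c S3 S4 S4' (clsM (m := m) q)
    ?_ ?_ ?_
    (fun f => f.elim id fun b => b.elim (fun _ => j0) fun c => c.1)
    (fun f => f.elim (fun _ => e1 0 + Finsupp.single (Fin.last n) q)
      fun b => b.elim (fun μ => μ.1 + e1 j0.1) fun c => Finsupp.single (one n) q + e1 c.2.1) ?_ ?_).trans ?_
  · intro j γ f h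
    exact ⟨(clsM_cases h).1.1, (clsM_cases h).1.2.trans (by simp [gM, Finsupp.degree_single])⟩
  · intro j j' δ f hδ h
    rcases ne_or_eq j j' with hne | rfl
    swap
    · exact h
    unfold evc at h
    split_ifs at h with hle
    have hδe := (tsub_add_cancel_of_le hle).symm
    rw [gM_sub hne] at hδe h
    obtain ⟨⟨-, hd⟩, ⟨rfl, h0⟩ | ⟨t, rfl, hγ⟩ | ⟨μ, rfl, hγ, hnc⟩⟩ := clsM_cases h
    · refine absurd ((inI_iff _ δ).mpr (Or.inl ⟨⟨j'.1, by have := j'.2.2; omega⟩, gL_le _ ?_ ?_ ?_⟩)) hδ
      · rw [hδe, Finsupp.add_apply]; omega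
      · rw [hδe]; simp [e1_apply]
      · show j'.1.val ≠ 0; have := j'.2.1; omega
    · refine absurd ((inI_iff _ δ).mpr (Or.inr ⟨j', ?_⟩)) hδ
      rw [hδe, hγ, gM]
      exact fun x => by simp only [Finsupp.add_apply]; omega
    · rw [hγ] at hδe
      unfold evc
      rw [gM_sub hne.symm]
      have hperm : δ = (μ.1 + e1 j'.1) + e1 j.1 := by rw [hδe]; abel
      rw [if_pos (by rw [hperm]; exact le_add_self), hperm, add_tsub_cancel_right]
      refine clsM_h μ (fun ⟨b, hb⟩ => hδ ⟨b, le_trans hb (by rw [hperm]; exact le_self_add)⟩) ?_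
      rintro ⟨t, ht⟩
      refine hδ ((inI_iff _ δ).mpr (Or.inr ⟨j, ?_⟩))
      rw [hperm, ht, gM]
      exact fun x => by simp only [Finsupp.add_apply]; omega
  · intro j γ f h he
    rw [he] at h
    obtain ⟨-, ⟨-, h0⟩ | ⟨t, -, hγ⟩ | ⟨μ, -, hγ, -⟩⟩ := clsM_cases h
    · rw [Finsupp.single_apply, if_neg (fun e => by have := congrArg Fin.val e; simp only [Fin.val_zero, Fin.val_last] at this; omega)] at h0
      omega
    · have := DFunLike.congr_fun hγ (one n)
      simp only [Finsupp.add_apply, Finsupp.single_apply, if_pos trivial] at this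
      rw [if_neg oneN.symm] at this
      omega
    · have := DFunLike.congr_fun hγ j.1
      simp only [Finsupp.add_apply, Finsupp.single_apply, e1_apply, if_pos trivial] at this
      rw [if_neg (hMN j).symm] at this
      omega
  · rintro (j | μ | ⟨j, t⟩)
    · refine clsM_b (notInI0 hn1 hmn) (by simp [Finsupp.degree_single]; omega) ?_
      simp [e1_apply]
    · obtain ⟨h1, h2, -⟩ := mem_HP.mp μ.2
      refine clsM_h μ (notInI_of _ ?_ (hR _ ?_)) ?_
      · simp [e1_apply, hM0 j0, h2]
      · simp [e1_apply, hj01]; exact HP_lt μ.2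
      · rintro ⟨t, ht⟩
        have := DFunLike.congr_fun ht (one n)
        simp [e1_apply, hj01] at this
        have := HP_lt μ.2
        omega
    · refine clsM_c t hn1 (notInI_of _ ?_ ?_)
      · have ht0 : t.1 ≠ 0 := fun e => by have := congrArg Fin.val e; simp only [Fin.val_zero, Fin.val_last] at this; have := t.2; omega
        simp [e1_apply, one0, ht0]
      · intro hin
        obtain ⟨l, hl1, -, hl3⟩ := (inI_gM _).mp hin
        have htl : t.1 ≠ l.1 := fun e => by
          have := congrArg Fin.val e; have := t.2; have := l.2.2; omega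
        have ht1 : t.1 ≠ one n := fun e => by
          have := congrArg Fin.val e; rw [one_val hn1] at this; have := t.2; omega
        by_cases hlo : l.1 = one n
        · have := hl1 hlo
          simp [e1_apply, ht1] at this
        · simp [e1_apply, htl, Ne.symm hlo] at hl3
  · intro v hv j γ hγ hdeg
    replace hdeg : γ.degree = q + 1 := hdeg.trans (by simp [gM, Finsupp.degree_single])
    have hγL : ¬ InI (gL (n := n)) γ := fun hh => hγ ((inI_iff _ γ).mpr (Or.inl hh))
    rcases Nat.eq_zero_or_pos (γ 0) with h0 | h0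
    swap
    · rw [clsM_b hγ hdeg h0]
      show v (Sum.inr j) γ = v (Sum.inr j) _
      rw [form0 hn1 hγL h0 hdeg]
      rfl
    rcases le_or_gt q (γ (one n)) with hq1 | hq1
    · obtain ⟨r, rfl⟩ := exists_add_of_le (show Finsupp.single (one n) q ≤ γ by rw [Finsupp.single_le_iff]; omega)
      have hr : r.degree = 1 := by rw [map_add, Finsupp.degree_single] at hdeg; omega
      obtain ⟨t, rfl⟩ := exists_e1 hr
      have ht : m < t.val := by
        by_contra hc
        have ht0 : t.val ≠ 0 := fun e => by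
          rw [show t = 0 from Fin.ext (by simpa using e)] at h0
          simp [e1_apply] at h0
        exact hγ ((inI_iff _ _).mpr (Or.inr ⟨⟨t, by omega, by omega⟩, le_rfl⟩))
      rw [clsM_c ⟨t, ht⟩ hn1 hγ]
      rfl
    by_cases hj : γ j.1 = 0
    · have hnone : clsM q j γ = (none : Option (FM n q m)) := by
        cases hc : clsM q j γ with
        | none => rfl
        | some f =>
          obtain ⟨-, ⟨-, h⟩ | ⟨t, -, h⟩ | ⟨μ, -, h, -⟩⟩ := clsM_cases hc
          · omega
          · rw [h] at hq1; simp [e1_apply] at hq1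
          · rw [h] at hj; simp [e1_apply] at hj
      rw [hnone]
      show v (Sum.inr j) γ = 0
      obtain ⟨j', hne, hδ⟩ : ∃ j' : M n m, j ≠ j' ∧ ¬ InI (G (gM (m := m) q)) (γ + e1 j'.1) := by
        have hz : ∀ j' : M n m, (γ + e1 j'.1) 0 = 0 := fun j' => by simp [e1_apply, h0, hM0 j']
        by_cases hl : ∃ l : M n m, l.1 ≠ one n ∧ 0 < γ l.1
        · obtain ⟨l, hl1, hl2⟩ := hl
          exact ⟨l, fun e => by rw [e] at hj; omega,
            notInI_of _ (hz l) (hR _ (by simp [e1_apply, hl1]; omega))⟩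
        · push Not at hl
          by_cases hj1 : j.1 = one n
          · exact ⟨j0, fun e => hj01 (e ▸ hj1),
              notInI_of _ (hz j0) (hR _ (by simp [e1_apply, hj01]; omega))⟩
          · let o : M n m := ⟨one n, by rw [one_val hn1]; omega⟩
            refine ⟨o, fun e => hj1 (congrArg Subtype.val e), notInI_of _ (hz o) fun hin => ?_⟩
            obtain ⟨l, hl1, hl2, hl3⟩ := (inI_gM _).mp hin
            by_cases hlo : l.1 = one n
            · have h5 := hl1 hlo
              rw [Finsupp.add_apply, e1_apply, if_pos rfl] at h5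
              omega
            · rw [Finsupp.add_apply, e1_apply, if_neg (show o.1 ≠ l.1 from fun e => hlo e.symm), add_zero] at hl3
              have := hl l hlo
              omega
      have h2 := hv.2 (Sum.inr j) (Sum.inr j') _ hδ
      simp only [ev, Sum.elim_inr, gM_sub hne, gM_sub hne.symm] at h2
      rw [if_pos le_add_self, if_neg, add_tsub_cancel_right] at h2
      · exact h2
      intro hle
      have h1 := hle j.1
      have hjj : j'.1 ≠ j.1 := fun e => hne (Subtype.ext e.symm)
      rw [Finsupp.add_apply, e1_apply, e1_apply, if_pos rfl, if_neg hjj] at h1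
      omega
    obtain ⟨r, rfl, hr⟩ := exists_add_e1 hdeg (Nat.pos_of_ne_zero hj)
    have hμ : r ∈ HP n q := mem_HP.mpr ⟨hr, by simpa [e1_apply, hM0 j] using h0, fun e => by
      rw [e] at hq1; simp [e1_apply] at hq1⟩
    have hc : ¬ ∃ t : {t : Fin (n + 1) // m < t.val}, r + e1 j.1 = Finsupp.single (one n) q + e1 t.1 := by
      rintro ⟨t, ht⟩
      have h5 := DFunLike.congr_fun ht (one n)
      simp only [Finsupp.add_apply, Finsupp.single_apply, e1_apply, ↓reduceIte] at h5 hq1
      omega
    rw [add_comm (e1 j.1) r] at hγ hq1 ⊢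
    rw [clsM_h ⟨r, hμ⟩ hγ hc]
    show v (Sum.inr j) _ = v (Sum.inr j0) (r + e1 j0.1)
    rcases eq_or_ne j j0 with rfl | hne
    · rfl
    have hδ : ¬ InI (G (gM (m := m) q)) (r + e1 j.1 + e1 j0.1) := by
      obtain ⟨-, h2, -⟩ := mem_HP.mp hμ
      refine notInI_of _ (by simp [e1_apply, h2, hM0 j, hM0 j0]) (hR _ ?_)
      rw [Finsupp.add_apply, e1_apply, if_neg hj01]
      omega
    have h2 := hv.2 (Sum.inr j) (Sum.inr j0) _ hδ
    simp only [ev, Sum.elim_inr, gM_sub hne, gM_sub hne.symm] at h2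
    rw [if_pos le_add_self, if_pos (le_trans le_add_self le_self_add), add_tsub_cancel_right,
      show r + e1 j.1 + e1 j0.1 = (r + e1 j0.1) + e1 j.1 by abel, add_tsub_cancel_right] at h2
    exact h2
  · have hM : Fintype.card (M n m) = m :=
      (Fintype.card_congr ⟨fun x : M n m => (⟨x.1.val - 1, by have := x.2; omega⟩ : Fin m),
        fun y => ⟨⟨y.val + 1, by omega⟩, by simp only; omega⟩,
        fun x => Subtype.ext (Fin.ext (by have := x.2; simp only; omega)),
        fun y => Fin.ext (by simp)⟩).trans (Fintype.card_fin m)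
    have hT : Fintype.card {t : Fin (n + 1) // m < t.val} = n - m :=
      (Fintype.card_congr ⟨fun x : {t : Fin (n + 1) // m < t.val} => (⟨x.1.val - (m + 1), by have := x.2; omega⟩ : Fin (n - m)),
        fun y => ⟨⟨y.val + (m + 1), by omega⟩, by simp only; omega⟩,
        fun x => Subtype.ext (Fin.ext (by have := x.2; simp only; omega)),
        fun y => Fin.ext (by simp)⟩).trans (Fintype.card_fin (n - m))
    have hL : Fintype.card (L n) = n :=
      (Fintype.card_congr ⟨fun x : L n => (⟨x.1.val, x.2⟩ : Fin n),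
        fun y => ⟨⟨y.val, by omega⟩, y.2⟩, fun x => rfl, fun y => rfl⟩).trans (Fintype.card_fin n)
    simp only [Fintype.card_sum, Fintype.card_prod, Fintype.card_coe, hM, hT, hL, card_HP hn1]
end Mon

end Groth.Agent.Lib.HilbHom62.Borel
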