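import Groth.Agent.Lib.HilbHom62.Basic
import Mathlib.Data.Fintype.Sum
import Mathlib.Data.Fintype.Prod
import Mathlib.SetTheory.Cardinal.Finite

/-!
# The product of the ideals of two disjoint coordinate subspaces
-/

set_option autoImplicit false
set_option linter.unusedSectionVars false

noncomputable section

open W4c1hilbpn

namespace Groth.Agent.Lib.HilbHom62

universe u

variable {σ : Type} [Fintype σ] [DecidableEq σ]

/-- The unit exponent. -/
abbrev e1 (x : σ) : σ →₀ ℕ := Finsupp.single x 1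

theorem e1_apply (x y : σ) : e1 x y = if x = y then 1 else 0 := Finsupp.single_apply

theorem exists_e1 {γ : σ →₀ ℕ} (h : γ.degree = 1) : ∃ s, γ = e1 s := by
  obtain ⟨s, hs⟩ : ∃ s, γ s ≠ 0 := by
    by_contra hc
    push Not at hc
    rw [show γ = 0 from Finsupp.ext hc] at h
    simp at h
  refine ⟨s, (?_ : e1 s = γ).symm⟩
  have hle : e1 s ≤ γ := by rw [Finsupp.single_le_iff]; exact Nat.one_le_iff_ne_zero.mpr hs
  obtain ⟨r, hr⟩ := exists_add_of_le hle
  have hd := congrArg Finsupp.degree hr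
  rw [map_add, h, Finsupp.degree_single] at hd
  have : r = 0 := (Finsupp.degree_eq_zero_iff r).mp (by omega)
  rw [hr, this, add_zero]

theorem exists_add_e1 {γ : σ →₀ ℕ} {b : σ} {d : ℕ} (h : γ.degree = d + 1) (hb : 0 < γ b) :
    ∃ r, γ = e1 b + r ∧ r.degree = d := by
  have hle : e1 b ≤ γ := by rw [Finsupp.single_le_iff]; exact hb
  obtain ⟨r, hr⟩ := exists_add_of_le hle
  refine ⟨r, hr, ?_⟩
  have hd := congrArg Finsupp.degree hr
  rw [map_add, h, Finsupp.degree_single] at hd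
  omega

namespace TwoPlanes

variable (A B : σ → Prop) [DecidablePred A] [DecidablePred B]

/-- The generators. -/
def g (i : {a // A a} × {b // B b}) : σ →₀ ℕ := e1 i.1.1 + e1 i.2.1

theorem inI_iff (hAB : ∀ x, A x → ¬ B x) (γ : σ →₀ ℕ) :
    InI (g A B) γ ↔ ∃ a b, A a ∧ B b ∧ 0 < γ a ∧ 0 < γ b := by
  constructor
  · rintro ⟨⟨⟨a, ha⟩, ⟨b, hb⟩⟩, h⟩
    refine ⟨a, b, ha, hb, ?_, ?_⟩
    · have := h a; simp [g, e1_apply] at this; omega
    · have := h b; simp [g, e1_apply] at this; omega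
  · rintro ⟨a, b, ha, hb, h1, h2⟩
    refine ⟨⟨⟨a, ha⟩, ⟨b, hb⟩⟩, fun x => ?_⟩
    have hne : a ≠ b := fun h => hAB a ha (h ▸ hb)
    simp only [g, Finsupp.add_apply, e1_apply]
    split_ifs with h h' h'
    · exact absurd (h.trans h'.symm) hne
    · subst h; omega
    · subst h'; omega
    · omega

/-- The parameters. -/
abbrev F := ({a // A a} × {s // ¬ A s}) ⊕ ({b // B b} × {t // ¬ B t})

open Classical in
/-- The class of a coefficient. -/
def cls (i : {a // A a} × {b // B b}) (γ : σ →₀ ℕ) : Option (F A B) :=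
  if h : ∃ s, ¬ A s ∧ γ = e1 i.2.1 + e1 s then some (.inl (i.1, ⟨h.choose, h.choose_spec.1⟩))
  else if h : ∃ t, ¬ B t ∧ γ = e1 i.1.1 + e1 t then some (.inr (i.2, ⟨h.choose, h.choose_spec.1⟩))
  else none

variable {A B}

theorem e1_inj {x y : σ} (h : e1 x = e1 y) : x = y :=
  Finsupp.single_left_injective one_ne_zero h

theorem cls_inl (i : {a // A a} × {b // B b}) {s : σ} (hs : ¬ A s) :
    cls A B i (e1 i.2.1 + e1 s) = some (.inl (i.1, ⟨s, hs⟩)) := by
  have h : ∃ s', ¬ A s' ∧ e1 i.2.1 + e1 s = e1 i.2.1 + e1 s' := ⟨s, hs, rfl⟩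
  rw [cls, dif_pos h]
  have := e1_inj (add_left_cancel h.choose_spec.2)
  exact congrArg some (congrArg Sum.inl (Prod.ext rfl (Subtype.ext this.symm)))

theorem cls_inr (hAB : ∀ x, A x → ¬ B x) (i : {a // A a} × {b // B b}) {t : σ} (ht : ¬ B t) :
    cls A B i (e1 i.1.1 + e1 t) = some (.inr (i.2, ⟨t, ht⟩)) := by
  have hno : ¬ ∃ s', ¬ A s' ∧ e1 i.1.1 + e1 t = e1 i.2.1 + e1 s' := by
    rintro ⟨s', hs', h⟩
    have := DFunLike.congr_fun h i.1.1
    simp only [Finsupp.add_apply, e1_apply] at this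
    have hne : i.2.1 ≠ i.1.1 := fun e => hAB _ i.1.2 (e ▸ i.2.2)
    have hne' : s' ≠ i.1.1 := fun e => hs' (e ▸ i.1.2)
    simp [hne, hne'] at this
  have h : ∃ t', ¬ B t' ∧ e1 i.1.1 + e1 t = e1 i.1.1 + e1 t' := ⟨t, ht, rfl⟩
  rw [cls, dif_neg hno, dif_pos h]
  have := e1_inj (add_left_cancel h.choose_spec.2)
  exact congrArg some (congrArg Sum.inr (Prod.ext rfl (Subtype.ext this.symm)))

theorem cls_eq_some (i : {a // A a} × {b // B b}) {γ : σ →₀ ℕ} {f : F A B} (h : cls A B i γ = some f) :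
    (∃ s : {s // ¬ A s}, f = .inl (i.1, s) ∧ γ = e1 i.2.1 + e1 s.1) ∨
      ∃ t : {t // ¬ B t}, f = .inr (i.2, t) ∧ γ = e1 i.1.1 + e1 t.1 := by
  unfold cls at h
  split_ifs at h with h1 h2
  · exact Or.inl ⟨⟨h1.choose, h1.choose_spec.1⟩, (Option.some.inj h).symm, h1.choose_spec.2⟩
  · exact Or.inr ⟨⟨h2.choose, h2.choose_spec.1⟩, (Option.some.inj h).symm, h2.choose_spec.2⟩

theorem g_sub_left (hAB : ∀ x, A x → ¬ B x) {a : {a // A a}} {b b' : {b // B b}} (h : b ≠ b') :
    g A B (a, b') - g A B (a, b) = e1 b'.1 := by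
  refine Finsupp.ext fun x => ?_
  have : b.1 ≠ b'.1 := fun e => h (Subtype.ext e)
  simp only [g, Finsupp.coe_tsub, Pi.sub_apply, Finsupp.add_apply, e1_apply]
  split_ifs <;> simp_all

theorem g_sub_right (hAB : ∀ x, A x → ¬ B x) {a a' : {a // A a}} {b : {b // B b}} (h : a ≠ a') :
    g A B (a', b) - g A B (a, b) = e1 a'.1 := by
  refine Finsupp.ext fun x => ?_
  have : a.1 ≠ a'.1 := fun e => h (Subtype.ext e)
  simp only [g, Finsupp.coe_tsub, Pi.sub_apply, Finsupp.add_apply, e1_apply]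
  split_ifs <;> simp_all

variable (k : Type u) [Field k]

theorem finrank (hAB : ∀ x, A x → ¬ B x) (a0 a1 : {a // A a}) (ha : a0 ≠ a1)
    (b0 b1 : {b // B b}) (hb : b0 ≠ b1) :
    Module.finrank k ↥(H0 k (g A B)) = Fintype.card (F A B) := by
  classical
  refine finrank_of_classes (cls A B) ?_ ?_
    (fun f => f.elim (fun p => (p.1, b0)) (fun p => (a0, p.1)))
    (fun f => f.elim (fun p => e1 b0.1 + e1 p.2.1) (fun p => e1 a0.1 + e1 p.2.1)) ?_ ?_
  · intro i γ f h
    rcases cls_eq_some i h with ⟨s, -, rfl⟩ | ⟨t, -, rfl⟩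
    · refine ⟨fun hin => ?_, by simp [g, Finsupp.degree_single]⟩
      obtain ⟨a, b, ha', -, h1, -⟩ := (inI_iff A B hAB _).mp hin
      have h2 : s.1 ≠ a := fun e => s.2 (e ▸ ha')
      have h3 : i.2.1 ≠ a := fun e => hAB _ ha' (e ▸ i.2.2)
      simp [e1_apply, h2, h3] at h1
    · refine ⟨fun hin => ?_, by simp [g, Finsupp.degree_single]⟩
      obtain ⟨a, b, -, hb', -, h1⟩ := (inI_iff A B hAB _).mp hin
      have h2 : t.1 ≠ b := fun e => t.2 (e ▸ hb')
      have h3 : i.1.1 ≠ b := fun e => hAB _ i.1.2 (e ▸ hb')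
      simp [e1_apply, h2, h3] at h1
  · rintro ⟨a, b⟩ ⟨a', b'⟩ δ f hδ h
    unfold evc at h
    split_ifs at h with hle
    have hδe := (tsub_add_cancel_of_le hle).symm
    rcases cls_eq_some _ h with ⟨s, rfl, hγ⟩ | ⟨t, rfl, hγ⟩
    · rw [hγ] at hδe
      dsimp only at hδe
      rcases ne_or_eq a a' with hne | rfl
      · refine absurd ((inI_iff A B hAB δ).mpr ⟨a'.1, b.1, a'.2, b.2, ?_, ?_⟩) hδ
        · have h1 : a.1 ≠ a'.1 := fun e => hne (Subtype.ext e)
          have h2 : b.1 ≠ a'.1 := fun e => hAB _ a'.2 (e ▸ b.2)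
          rw [hδe]
          simp [g, e1_apply, h1, h2]
        · rw [hδe]; simp [e1_apply]
      rcases ne_or_eq b b' with hne | rfl
      · rw [g_sub_left hAB hne] at hδe
        unfold evc
        rw [g_sub_left hAB hne.symm, if_pos (by rw [hδe]; exact le_trans le_self_add le_self_add)]
        rw [hδe, show e1 b.1 + e1 s.1 + e1 b'.1 = (e1 b'.1 + e1 s.1) + e1 b.1 by abel, add_tsub_cancel_right]
        exact cls_inl (a, b') s.2
      · unfold evc; rw [if_pos hle]; exact h
    · rw [hγ] at hδe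
      dsimp only at hδe
      rcases ne_or_eq b b' with hne | rfl
      · refine absurd ((inI_iff A B hAB δ).mpr ⟨a.1, b'.1, a.2, b'.2, ?_, ?_⟩) hδ
        · rw [hδe]; simp [e1_apply]
        · have h1 : b.1 ≠ b'.1 := fun e => hne (Subtype.ext e)
          have h2 : a.1 ≠ b'.1 := fun e => hAB _ a.2 (e ▸ b'.2)
          rw [hδe]
          simp [g, e1_apply, h1, h2]
      rcases ne_or_eq a a' with hne | rfl
      · rw [g_sub_right hAB hne] at hδe
        unfold evc
        rw [g_sub_right hAB hne.symm, if_pos (by rw [hδe]; exact le_trans le_self_add le_self_add)]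
        rw [hδe, show e1 a.1 + e1 t.1 + e1 a'.1 = (e1 a'.1 + e1 t.1) + e1 a.1 by abel, add_tsub_cancel_right]
        exact cls_inr hAB (a', b) t.2
      · unfold evc; rw [if_pos hle]; exact h
  · rintro (⟨a, s⟩ | ⟨b, t⟩)
    · exact cls_inl (a, b0) s.2
    · exact cls_inr hAB (a0, b) t.2
  · rintro v hv ⟨a, b⟩ γ hγ hdeg
    rw [show (g A B (a, b)).degree = 1 + 1 by simp [g, Finsupp.degree_single]] at hdeg
    rcases Nat.eq_zero_or_pos (γ b.1) with hγb | hγb
    swap
    · obtain ⟨r, rfl, hr⟩ := exists_add_e1 hdeg hγb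
      obtain ⟨s, rfl⟩ := exists_e1 hr
      have hs : ¬ A s := fun hs => hγ ((inI_iff A B hAB _).mpr ⟨s, b.1, hs, b.2, by simp [e1_apply], by simp [e1_apply]⟩)
      rw [cls_inl (a, b) hs]
      show v (a, b) _ = v (a, b0) (e1 b0.1 + e1 s)
      rcases ne_or_eq b b0 with hne | rfl
      swap
      · rfl
      have hδ : ¬ InI (g A B) (e1 b.1 + e1 s + e1 b0.1) := fun hin => by
        obtain ⟨x, y, hx, -, h1, -⟩ := (inI_iff A B hAB _).mp hin
        have q1 : b.1 ≠ x := fun e => hAB _ hx (e ▸ b.2)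
        have q2 : b0.1 ≠ x := fun e => hAB _ hx (e ▸ b0.2)
        have q3 : s ≠ x := fun e => hs (e ▸ hx)
        simp [e1_apply, q1, q2, q3] at h1
      have := hv.2 (a, b) (a, b0) _ hδ
      simp only [ev, g_sub_left hAB hne, g_sub_left hAB hne.symm] at this
      rw [if_pos le_add_self, if_pos (le_trans le_self_add le_self_add), add_tsub_cancel_right,
        show e1 b.1 + e1 s + e1 b0.1 = (e1 b0.1 + e1 s) + e1 b.1 by abel, add_tsub_cancel_right] at this
      exact this
    rcases Nat.eq_zero_or_pos (γ a.1) with hγa | hγa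
    swap
    · obtain ⟨r, rfl, hr⟩ := exists_add_e1 hdeg hγa
      obtain ⟨t, rfl⟩ := exists_e1 hr
      have ht : ¬ B t := fun ht => hγ ((inI_iff A B hAB _).mpr ⟨a.1, t, a.2, ht, by simp [e1_apply], by simp [e1_apply]⟩)
      rw [cls_inr hAB (a, b) ht]
      show v (a, b) _ = v (a0, b) (e1 a0.1 + e1 t)
      rcases ne_or_eq a a0 with hne | rfl
      swap
      · rfl
      have hδ : ¬ InI (g A B) (e1 a.1 + e1 t + e1 a0.1) := fun hin => by
        obtain ⟨x, y, -, hy, -, h1⟩ := (inI_iff A B hAB _).mp hin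
        have q1 : a.1 ≠ y := fun e => hAB _ a.2 (e ▸ hy)
        have q2 : a0.1 ≠ y := fun e => hAB _ a0.2 (e ▸ hy)
        have q3 : t ≠ y := fun e => ht (e ▸ hy)
        simp [e1_apply, q1, q2, q3] at h1
      have := hv.2 (a, b) (a0, b) _ hδ
      simp only [ev, g_sub_right hAB hne, g_sub_right hAB hne.symm] at this
      rw [if_pos le_add_self, if_pos (le_trans le_self_add le_self_add), add_tsub_cancel_right,
        show e1 a.1 + e1 t + e1 a0.1 = (e1 a0.1 + e1 t) + e1 a.1 by abel, add_tsub_cancel_right] at this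
      exact this
    have hnone : cls A B (a, b) γ = none := by
      cases hc : cls A B (a, b) γ with
      | none => rfl
      | some f =>
        rcases cls_eq_some _ hc with ⟨s, -, rfl⟩ | ⟨t, -, rfl⟩
        · simp [e1_apply] at hγb
        · simp [e1_apply] at hγa
    rw [hnone]
    show v (a, b) γ = 0
    by_cases hA : ∃ x, A x ∧ 0 < γ x
    · obtain ⟨x, hx, hx0⟩ := hA
      obtain ⟨a', hne⟩ : ∃ a' : {a // A a}, a ≠ a' := by
        by_cases h : a = a0
        · exact ⟨a1, h ▸ ha⟩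
        · exact ⟨a0, h⟩
      have hδ : ¬ InI (g A B) (γ + e1 a'.1) := fun hin => by
        obtain ⟨-, y, -, hy, -, h1⟩ := (inI_iff A B hAB _).mp hin
        have q : a'.1 ≠ y := fun e => hAB _ a'.2 (e ▸ hy)
        rw [Finsupp.add_apply, e1_apply, if_neg q, add_zero] at h1
        exact hγ ((inI_iff A B hAB _).mpr ⟨x, y, hx, hy, hx0, h1⟩)
      have := hv.2 (a, b) (a', b) _ hδ
      simp only [ev, g_sub_right hAB hne, g_sub_right hAB hne.symm] at this
      rw [if_pos le_add_self, if_neg, add_tsub_cancel_right] at this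
      · exact this
      · intro hle
        have h1 := hle a.1
        have q : a'.1 ≠ a.1 := fun e => hne (Subtype.ext e.symm)
        simp [e1_apply, hγa, q] at h1
    · obtain ⟨b', hne⟩ : ∃ b' : {b // B b}, b ≠ b' := by
        by_cases h : b = b0
        · exact ⟨b1, h ▸ hb⟩
        · exact ⟨b0, h⟩
      have hδ : ¬ InI (g A B) (γ + e1 b'.1) := fun hin => by
        obtain ⟨x, -, hx, -, h1, -⟩ := (inI_iff A B hAB _).mp hin
        have q : b'.1 ≠ x := fun e => hAB _ hx (e ▸ b'.2)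
        rw [Finsupp.add_apply, e1_apply, if_neg q, add_zero] at h1
        exact hA ⟨x, hx, h1⟩
      have := hv.2 (a, b) (a, b') _ hδ
      simp only [ev, g_sub_left hAB hne, g_sub_left hAB hne.symm] at this
      rw [if_pos le_add_self, if_neg, add_tsub_cancel_right] at this
      · exact this
      · intro hle
        have h1 := hle b.1
        have q : b'.1 ≠ b.1 := fun e => hne (Subtype.ext e.symm)
        simp [e1_apply, hγb, q] at h1

end TwoPlanes

end Groth.Agent.Lib.HilbHom62
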